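import Cfsg.Agent.UGT.ThEL34.Core

/-!
# Theorem E for `L₃(4)`, II: elements of `N(L)` as automorphisms of `L`
-/

set_option autoImplicit false

open Subgroup

namespace Cfsg.Agent.UGT.ThEL34

open Cfsg.Agent.UGT.ThE.Base (comm_of_mem L_conj L_conj' K_le_M L_le_M K_conj K_conj' IsT IsS IsT1 exists_central
  exists_sqrt)

variable {G : Type*} [Group G] {L : Subgroup G}

/-- `m` acts on `L` by conjugation as the automorphism `a` -/
def Acts (L : Subgroup G) (m : G) (a : MulAut L) : Prop := ∀ l : L, ((a l : L) : G) = m * l * m⁻¹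

theorem exists_acts {m : G} (hm : m ∈ normalizer (L : Set G)) : ∃ a, Acts L m a :=
  ⟨L.normalizerMonoidHom ⟨m, hm⟩, fun _ => rfl⟩

theorem acts_norm (m : normalizer (L : Set G)) : Acts L (m : G) (L.normalizerMonoidHom m) := fun _ => rfl

theorem Acts.mem {m : G} {a : MulAut L} (h : Acts L m a) : m ∈ normalizer (L : Set G) := by
  rw [mem_normalizer_iff]
  intro l
  constructor
  · intro hl
    rw [← h ⟨l, hl⟩]
    exact (a _).2
  · intro hl
    have h1 := h (a⁻¹ ⟨m * l * m⁻¹, hl⟩)
    have h2 : a (a⁻¹ ⟨m * l * m⁻¹, hl⟩) = ⟨m * l * m⁻¹, hl⟩ := by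
      rw [← MulAut.mul_apply, mul_inv_cancel, MulAut.one_apply]
    rw [h2] at h1
    have h3 : l = (a⁻¹ ⟨m * l * m⁻¹, hl⟩ : L) := mul_left_cancel (mul_right_cancel h1)
    rw [h3]
    exact (a⁻¹ ⟨m * l * m⁻¹, hl⟩).2

theorem Acts.uniq {m : G} {a b : MulAut L} (h : Acts L m a) (h' : Acts L m b) : a = b := by
  ext l
  rw [h l, h' l]

theorem Acts.mul {m n : G} {a b : MulAut L} (h : Acts L m a) (h' : Acts L n b) :
    Acts L (m * n) (a * b) := by
  intro l
  rw [MulAut.mul_apply, h, h']
  group

theorem acts_one : Acts L 1 1 := fun l => by simp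

theorem Acts.inv {m : G} {a : MulAut L} (h : Acts L m a) : Acts L m⁻¹ a⁻¹ := by
  obtain ⟨b, hb⟩ := exists_acts (inv_mem h.mem)
  have h1 : a * b = 1 := (mul_inv_cancel m ▸ h.mul hb : Acts L 1 (a * b)).uniq acts_one
  rw [← eq_inv_of_mul_eq_one_right h1]
  exact hb

theorem acts_one_iff {m : G} : Acts L m 1 ↔ m ∈ centralizer (L : Set G) := by
  rw [mem_centralizer_iff]
  constructor
  · intro h l hl
    have h1 := h ⟨l, hl⟩
    rw [MulAut.one_apply] at h1
    calc l * m = (m * l * m⁻¹) * m := by rw [← h1]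
      _ = m * l := by group
  · intro h l
    rw [MulAut.one_apply, ← h l l.2]
    group

theorem acts_of_mem {l : G} (hl : l ∈ L) : Acts L l (MulAut.conj ⟨l, hl⟩) := fun _ => rfl

theorem acts_coe (l : L) : Acts L (l : G) (MulAut.conj l) := fun _ => rfl

theorem Acts.mulK {m k : G} {a : MulAut L} (h : Acts L m a) (hk : k ∈ centralizer (L : Set G)) :
    Acts L (m * k) a := by
  have := h.mul (acts_one_iff.mpr hk)
  rwa [mul_one] at this

theorem Acts.Kmul {m k : G} {a : MulAut L} (h : Acts L m a) (hk : k ∈ centralizer (L : Set G)) :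
    Acts L (k * m) a := by
  have := (acts_one_iff.mpr hk).mul h
  rwa [one_mul] at this

theorem Acts.inv_mul_mem {m n : G} {a : MulAut L} (h : Acts L m a) (h' : Acts L n a) :
    m⁻¹ * n ∈ centralizer (L : Set G) := by
  have := h.inv.mul h'
  rw [inv_mul_cancel] at this
  exact acts_one_iff.mp this

theorem Acts.mul_inv_mem {m n : G} {a : MulAut L} (h : Acts L m a) (h' : Acts L n a) :
    m * n⁻¹ ∈ centralizer (L : Set G) := by
  have := h.mul h'.inv
  rw [mul_inv_cancel] at this
  exact acts_one_iff.mp this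

theorem Acts.sq {m : G} {a : MulAut L} (h : Acts L m a) (hm : m * m = 1) : a * a = 1 :=
  (hm ▸ h.mul h : Acts L 1 (a * a)).uniq acts_one

theorem Acts.comm {m n : G} {a b : MulAut L} (h : Acts L m a) (h' : Acts L n b) (hmn : m * n = n * m) :
    a * b = b * a :=
  (h.mul h').uniq (hmn ▸ h'.mul h)

theorem Acts.eq_one_iff {m : G} {a : MulAut L} (h : Acts L m a) :
    a = 1 ↔ m ∈ centralizer (L : Set G) := by
  rw [← acts_one_iff]
  constructor
  · rintro rfl; exact h
  · intro h1; exact h.uniq h1

theorem Acts.fix_iff {m : G} {a : MulAut L} (h : Acts L m a) (l : L) :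
    a l = l ↔ m * l = l * m := by
  constructor
  · intro h1
    have h2 := h l
    rw [h1] at h2
    calc m * (l : G) = (m * l * m⁻¹) * m := by group
      _ = l * m := by rw [← h2]
  · intro h1
    apply Subtype.ext
    rw [h l, h1]
    group

/-- the homomorphism given by the action of `g J g⁻¹ ≤ N(L)`, `J ≤ L` -/
theorem exists_hom {J : Subgroup L} {g : G} (h : ∀ j ∈ J, g * (j : G) * g⁻¹ ∈ normalizer (L : Set G)) :
    ∃ ψ : J →* MulAut L, ∀ j : J, Acts L (g * ((j : L) : G) * g⁻¹) (ψ j) := by
  let f : J →* normalizer (L : Set G) :=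
    { toFun := fun j => ⟨g * ((j : L) : G) * g⁻¹, h j j.2⟩
      map_one' := Subtype.ext (by simp)
      map_mul' := fun a b => Subtype.ext (by
        change g * (((a * b : J) : L) : G) * g⁻¹ = (g * ((a : L) : G) * g⁻¹) * (g * ((b : L) : G) * g⁻¹)
        have : (((a * b : J) : L) : G) = ((a : L) : G) * ((b : L) : G) := rfl
        rw [this]; group) }
  exact ⟨L.normalizerMonoidHom.comp f, fun j => acts_norm (f j)⟩

/-! ### consequences of the facts -/

section facts

variable {Λ : Type*} [Group Λ] {x : MulAut Λ} (F : Facts x)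
include F

theorem Facts.hom_units (f : Λ →* ℤˣ) : f = 1 := by
  have := F.simp
  rcases F.simp.eq_bot_or_eq_top_of_normal f.ker inferInstance with h | h
  · exfalso
    have hinj : Function.Injective f := (MonoidHom.ker_eq_bot_iff f).mp h
    obtain ⟨l, hl⟩ := exists_ne (1 : Λ)
    apply hl
    apply F.cl
    ext m
    rw [MulAut.conj_apply, MulAut.one_apply]
    apply hinj
    rw [map_mul, map_mul, map_inv, mul_comm (f l), mul_assoc, mul_inv_cancel, mul_one]
  · ext l
    have h1 : l ∈ f.ker := h ▸ mem_top l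
    rw [MonoidHom.mem_ker] at h1
    rw [h1]; rfl

theorem Facts.chi_conj (χ : MulAut Λ →* ℤˣ) (l : Λ) : χ (MulAut.conj l) = 1 := by
  have h := F.hom_units (χ.comp MulAut.conj)
  exact DFunLike.congr_fun h l

theorem Facts.xne (l : Λ) : x ≠ MulAut.conj l := by
  intro h
  obtain ⟨χ, hχ⟩ := F.chi0
  rw [h, F.chi_conj χ] at hχ
  exact absurd hχ (by decide)

theorem Facts.conj_inj {l m : Λ} (h : MulAut.conj l = MulAut.conj m) : l = m := by
  have h1 : MulAut.conj (l * m⁻¹) = 1 := by rw [map_mul, map_inv, h, mul_inv_cancel]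
  exact mul_inv_eq_one.mp (F.cl _ h1)

omit F in
theorem conj_conj (a : MulAut Λ) (l : Λ) : a * MulAut.conj l * a⁻¹ = MulAut.conj (a l) := by
  ext m
  simp only [MulAut.mul_apply, MulAut.conj_apply, map_mul, map_inv]
  rw [show a (a⁻¹ m) = m by rw [← MulAut.mul_apply, mul_inv_cancel, MulAut.one_apply]]

/-- an automorphism commutes with `conj l` iff it fixes `l` -/
theorem Facts.comm_conj_iff (a : MulAut Λ) (l : Λ) : a * MulAut.conj l = MulAut.conj l * a ↔ a l = l := by
  rw [← mul_inv_eq_iff_eq_mul, conj_conj]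
  exact ⟨fun h => F.conj_inj h, fun h => by rw [h]⟩

theorem Facts.conj_comm_iff (s l : Λ) :
    MulAut.conj s * MulAut.conj l = MulAut.conj l * MulAut.conj s ↔ s * l = l * s := by
  rw [← map_mul, ← map_mul]
  exact ⟨fun h => F.conj_inj h, fun h => by rw [h]⟩

theorem Facts.sq_of_conj {l : Λ} (h : MulAut.conj l * MulAut.conj l = 1) : l * l = 1 := by
  apply F.cl
  rw [map_mul, h]

omit F in
/-- trichotomy -/
theorem tri (x : MulAut Λ) {a : MulAut Λ} (h : a * a = 1) :
    (∃ l, a = MulAut.conj l) ∨ (∃ l, a = x * MulAut.conj l) ∨ Wild x a := by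
  by_cases h1 : ∃ l, a = MulAut.conj l
  · exact Or.inl h1
  by_cases h2 : ∃ l, a = x * MulAut.conj l
  · exact Or.inr (Or.inl h2)
  · push Not at h1 h2
    exact Or.inr (Or.inr ⟨h, h1, h2⟩)

theorem Facts.xinv : x⁻¹ = x := inv_eq_of_mul_eq_one_left F.xx

/-- the involutions commuting with `x` that are not wild -/
theorem Facts.cls {a : MulAut Λ} (h : a * a = 1) (hx : a * x = x * a) :
    (∃ s, s * s = 1 ∧ x s = s ∧ (a = MulAut.conj s ∨ a = x * MulAut.conj s)) ∨ Wild x a := by
  rcases tri x h with ⟨l, hl⟩ | ⟨l, hl⟩ | h1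
  · left
    rw [hl] at h hx
    exact ⟨l, F.sq_of_conj h, (F.comm_conj_iff x l).mp hx.symm, Or.inl hl⟩
  · left
    have hx' : x * MulAut.conj l = MulAut.conj l * x := by
      rw [hl] at hx
      have h2 : x * (MulAut.conj l * x) = x * (x * MulAut.conj l) := by
        calc x * (MulAut.conj l * x) = x * MulAut.conj l * x := by group
          _ = x * (x * MulAut.conj l) := hx
      exact (mul_left_cancel h2).symm
    refine ⟨l, ?_, (F.comm_conj_iff x l).mp hx', Or.inr hl⟩
    apply F.sq_of_conj
    rw [hl] at h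
    calc MulAut.conj l * MulAut.conj l = (x * x) * (MulAut.conj l * MulAut.conj l) := by
          rw [F.xx, one_mul]
      _ = x * (x * MulAut.conj l) * MulAut.conj l := by group
      _ = x * (MulAut.conj l * x) * MulAut.conj l := by rw [hx']
      _ = x * MulAut.conj l * (x * MulAut.conj l) := by group
      _ = 1 := h
  · exact Or.inr h1

/-- a four-group commuting with `x` without wild elements contains `x` -/
theorem Facts.four_x {a b : MulAut Λ} (ha : a * a = 1) (hb : b * b = 1) (hab : a * b = b * a)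
    (hax : a * x = x * a) (hbx : b * x = x * b) (ha1 : a ≠ 1) (hb1 : b ≠ 1) (hab1 : a * b ≠ 1)
    (wa : ¬ Wild x a) (wb : ¬ Wild x b) : a = x ∨ b = x ∨ a * b = x := by
  obtain ⟨s, hss, hxs, hs⟩ := (F.cls ha hax).resolve_right wa
  obtain ⟨t, htt, hxt, ht⟩ := (F.cls hb hbx).resolve_right wb
  have hxs' := (F.comm_conj_iff x s).mpr hxs
  have hxt' := (F.comm_conj_iff x t).mpr hxt
  by_cases hs1 : s = 1
  · rw [hs1, map_one, mul_one] at hs
    rcases hs with hs | hs
    · exact absurd hs ha1
    · exact Or.inl hs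
  by_cases ht1 : t = 1
  · rw [ht1, map_one, mul_one] at ht
    rcases ht with ht | ht
    · exact absurd ht hb1
    · exact Or.inr (Or.inl ht)
  have hst : s * t = t * s := by
    rw [← F.conj_comm_iff]
    rcases hs with hs | hs <;> rcases ht with ht | ht
    · rw [← hs, ← ht]; exact hab
    · rw [hs, ht] at hab
      apply mul_left_cancel (a := x)
      calc x * (MulAut.conj s * MulAut.conj t) = (x * MulAut.conj s) * MulAut.conj t := by group
        _ = MulAut.conj s * (x * MulAut.conj t) := by rw [hxs']; group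
        _ = x * (MulAut.conj t * MulAut.conj s) := by rw [hab]; group
    · rw [hs, ht] at hab
      apply mul_left_cancel (a := x)
      calc x * (MulAut.conj s * MulAut.conj t) = x * MulAut.conj s * MulAut.conj t := by group
        _ = (MulAut.conj t * x) * MulAut.conj s := by rw [hab]; group
        _ = x * (MulAut.conj t * MulAut.conj s) := by rw [← hxt']; group
    · rw [hs, ht] at hab
      apply mul_left_cancel (a := x * x)
      calc x * x * (MulAut.conj s * MulAut.conj t) = x * (x * MulAut.conj s) * MulAut.conj t := by group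
        _ = x * (MulAut.conj s * x) * MulAut.conj t := by rw [hxs']
        _ = x * MulAut.conj s * (x * MulAut.conj t) := by group
        _ = x * (MulAut.conj t * x) * MulAut.conj s := by rw [hab]; group
        _ = x * x * (MulAut.conj t * MulAut.conj s) := by rw [← hxt']; group
  have e := F.comm s t hss htt hs1 ht1 hxs hxt hst
  rw [← e] at ht
  have hcc : MulAut.conj s * MulAut.conj s = 1 := by rw [← map_mul, hss, map_one]
  rcases hs with hs | hs <;> rcases ht with ht | ht
  · exact absurd (by rw [hs, ht]; exact hcc) hab1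
  · right; right
    rw [hs, ht]
    calc MulAut.conj s * (x * MulAut.conj s) = (MulAut.conj s * x) * MulAut.conj s := by group
      _ = x * (MulAut.conj s * MulAut.conj s) := by rw [← hxs']; group
      _ = x := by rw [hcc, mul_one]
  · right; right
    rw [hs, ht]
    calc x * MulAut.conj s * MulAut.conj s = x * (MulAut.conj s * MulAut.conj s) := by group
      _ = x := by rw [hcc, mul_one]
  · exfalso
    apply hab1
    rw [hs, ht]
    calc x * MulAut.conj s * (x * MulAut.conj s) = x * (MulAut.conj s * x) * MulAut.conj s := by group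
      _ = (x * x) * (MulAut.conj s * MulAut.conj s) := by rw [← hxs']; group
      _ = 1 := by rw [F.xx, hcc, one_mul]

/-- the product of two commuting wild automorphisms is not wild -/
theorem Facts.not_wild_mul {a b : MulAut Λ} (ha : Wild x a) (hb : Wild x b) : ¬ Wild x (a * b) := by
  obtain ⟨χ, -, h⟩ := F.chi1
  intro hab
  have h1 := h _ hab
  rw [map_mul, h _ ha, h _ hb] at h1
  exact absurd h1 (by decide)

/-- a homomorphism from the fixed points of a wild automorphism into a solvable group is trivial -/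
theorem Facts.hom_trivial {a : MulAut Λ} (ha : Wild x a) {S : Subgroup (MulAut Λ)}
    (hS : Group.IsSolvable S) (ψ : fx a →* MulAut Λ) (h : ∀ j, ψ j ∈ S) (j : fx a) : ψ j = 1 := by
  have h1 := F.wperf a ha
  let ψ' : fx a →* S := ψ.codRestrict S h
  have h2 : ∀ n, (⊤ : Subgroup (fx a)).map ψ' ≤ derivedSeries S n := by
    intro n
    induction n with
    | zero => exact le_top
    | succ n ih =>
      have h3 : (⊤ : Subgroup (fx a)).map ψ' = ⁅(⊤ : Subgroup (fx a)).map ψ', (⊤ : Subgroup (fx a)).map ψ'⁆ := by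
        rw [← map_commutator]
        congr 1
        rw [← commutator_def, h1]
      rw [h3]
      exact commutator_mono ih ih
  obtain ⟨n, hn⟩ := (Group.isSolvable_def S).mp hS
  have h3 : ψ' j ∈ derivedSeries S n := h2 n ⟨j, mem_top j, rfl⟩
  rw [hn, mem_bot] at h3
  exact congrArg Subtype.val h3

end facts

end Cfsg.Agent.UGT.ThEL34
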