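import Cfsg.Agent.UGT.ThEL34.Facts

/-!
# Facts on `L₃(4)` used by Theorem E, second part (they replace Theorem H)
-/

set_option autoImplicit false

open Subgroup

namespace Cfsg.Agent.UGT.ThEL34

variable {L : Type*} [Group L]

/-- All facts on `L₃(4)`. -/
structure Facts2 (x : MulAut L) : Prop extends Facts x where
  /-- the Sylow 2-subgroups of `Out L` are elementary abelian -/
  out4 : ∀ b : MulAut L, b ^ 4 = 1 → ∃ l, b * b = MulAut.conj l
  /-- the involutions of `3² : Q₈` are squares -/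
  sq4 : ∀ s : L, s * s = 1 → s ≠ 1 → x s = s → ∃ r, x r = r ∧ r * r = s
  /-- `⟨O(C_L(x)), C_L(s)⟩ = L` for the involutions `s` of `C_L(x)` -/
  yp : ∀ s : L, s * s = 1 → s ≠ 1 → x s = s →
    closure {y | y ^ 3 = 1 ∧ x y = y} ⊔ centralizer ({s} : Set L) = ⊤
  /-- a wild automorphism commuting with `x` acts as a reflection on `O(C_L(x)) = 3²` -/
  wone : ∀ a, Wild x a → a * x = x * a → ∀ y z : L, y ^ 3 = 1 → x y = y → a y = y →
    z ^ 3 = 1 → x z = z → a z = z → y = 1 ∨ z = 1 ∨ y = z ∨ y = z⁻¹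

end Cfsg.Agent.UGT.ThEL34
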