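import Mathlib

/-!
# Facts on `L₃(4)` used by Theorem E (node `L₃(4)`)

`L = L₃(4)`, `x` an involutory automorphism of `L` with `C_L(x) = 3² : Q₈` (unitary polarity); everything
is stated in `MulAut L`. `Wild x a`: `a` is an involutory automorphism that is neither inner nor in `x Inn L`
(field type: `C_L(a) = L₃(2)`; graph type: `C_L(a) = A₅`).
-/

set_option autoImplicit false

open Subgroup

namespace Cfsg.Agent.UGT.ThEL34

variable {L : Type*} [Group L]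

/-- involutory automorphisms of field or graph type: the image in `Out L` is neither trivial nor that of `x` -/
structure Wild (x a : MulAut L) : Prop where
  sq : a * a = 1
  inn : ∀ l, a ≠ MulAut.conj l
  xinn : ∀ l, a ≠ x * MulAut.conj l

/-- the fixed points of an automorphism -/
def fx (a : MulAut L) : Subgroup L where
  carrier := {l | a l = l}
  mul_mem' {l m} hl hm := by
    change a (l * m) = l * m
    rw [map_mul, show a l = l from hl, show a m = m from hm]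
  one_mem' := map_one a
  inv_mem' {l} hl := by
    change a l⁻¹ = l⁻¹
    rw [map_inv, show a l = l from hl]

theorem mem_fx {a : MulAut L} {l : L} : l ∈ fx a ↔ a l = l := Iff.rfl

/-- The facts on `L = L₃(4)` and its automorphisms. -/
structure Facts (x : MulAut L) : Prop where
  xx : x * x = 1
  /-- `Z(L) = 1` -/
  cl : ∀ l : L, MulAut.conj l = 1 → l = 1
  simp : IsSimpleGroup L
  /-- `Out L` is solvable -/
  inn : ∀ (ψ : L →* MulAut L) (l : L), ∃ l', ψ l = MulAut.conj l'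
  chi0 : ∃ χ : MulAut L →* ℤˣ, χ x = -1
  chi1 : ∃ χ : MulAut L →* ℤˣ, χ x = 1 ∧ ∀ a, Wild x a → χ a = -1
  /-- the involutions of `x Inn L` are conjugate under `L` -/
  xconj : ∀ l, (x * MulAut.conj l) * (x * MulAut.conj l) = 1 →
    ∃ m, MulAut.conj m * (x * MulAut.conj l) * (MulAut.conj m)⁻¹ = x
  /-- an involution of `L` is a commutator in its centraliser (a Sylow 2-subgroup of `L`) -/
  cmt : ∀ s : L, s * s = 1 → s ≠ 1 → ∃ a b : L, a * s = s * a ∧ b * s = s * b ∧ s = a * b * a⁻¹ * b⁻¹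
  solx : Group.IsSolvable (centralizer ({x} : Set (MulAut L)))
  sols : ∀ s : L, s * s = 1 → s ≠ 1 → Group.IsSolvable (centralizer ({MulAut.conj s} : Set (MulAut L)))
  /-- commuting involutions of `C_L(x) = 3² : Q₈` are equal -/
  comm : ∀ s s' : L, s * s = 1 → s' * s' = 1 → s ≠ 1 → s' ≠ 1 → x s = s → x s' = s' →
    s * s' = s' * s → s = s'
  /-- `C_L(x)` is irreducible on `O(C_L(x)) = 3²` -/
  irr : ∀ y z : L, y ^ 3 = 1 → y ≠ 1 → x y = y → z ^ 3 = 1 → x z = z →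
    z ∈ closure {w | ∃ r, x r = r ∧ w = r * y * r⁻¹}
  /-- elements of order 3 of `C_L(x)` form a subgroup -/
  three : ∀ y z : L, y ^ 3 = 1 → x y = y → z ^ 3 = 1 → x z = z → (y * z) ^ 3 = 1
  /-- `O(C_L(x))` is not cyclic -/
  indep : ∃ y z : L, y ^ 3 = 1 ∧ x y = y ∧ z ^ 3 = 1 ∧ x z = z ∧ y ≠ 1 ∧ z ≠ 1 ∧ y ≠ z ∧ y ≠ z⁻¹
  /-- the Sylow 3-subgroup of `Out L` has order 3 -/
  out3 : ∀ b c : MulAut L, b ^ 3 = 1 → c ^ 3 = 1 → (∃ l, c = MulAut.conj l) ∨ (∃ l, b = MulAut.conj l) ∨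
    (∃ l, b = c * MulAut.conj l) ∨ ∃ l, b = c⁻¹ * MulAut.conj l
  wsimp : ∀ a, Wild x a → IsSimpleGroup (fx a)
  wperf : ∀ a, Wild x a → commutator (fx a) = ⊤
  weven : ∀ a, Wild x a → 2 ∣ Nat.card (fx a)
  wgen : ∀ a, Wild x a → ∀ i : L, i * i = 1 → i ≠ 1 → a i = i →
    fx a ⊔ centralizer ({i} : Set L) = ⊤
  /-- `C_L(C_L(a)) = 1` -/
  wcl : ∀ a, Wild x a → ∀ l : L, (∀ j, a j = j → l * j = j * l) → l = 1
  wpair : ∀ a b, Wild x a → Wild x b → a * b = b * a → (∃ l, a * b = x * MulAut.conj l) →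
    fx a ⊔ fx b = ⊤
  wthree : ∀ a, Wild x a → a * x = x * a → ∃ y : L, y ^ 3 = 1 ∧ y ≠ 1 ∧ a y = y ∧ x y = y
  /-- a root element `i` in the centre of the Sylow subgroup `C_L(s)` and an involution `j` outside -/
  p3 : ∀ s i j : L, s * s = 1 → s ≠ 1 → i * i = 1 → i ≠ 1 → j * j = 1 → j ≠ 1 →
    (∀ p, p * s = s * p → p * i = i * p) → i ≠ s → j * s = s * j → j * i = i * j →
    j ≠ i → j ≠ s → j ≠ i * s →
    ∃ n p : L, n * j = j * n ∧ p * i = i * p ∧ s = p * (n * i * n⁻¹ * i⁻¹) * p⁻¹ * (n * i * n⁻¹ * i⁻¹)⁻¹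
  /-- `C_L(s)` has class two -/
  p4 : ∀ s : L, s * s = 1 → s ≠ 1 → ∀ p q r : L, p * s = s * p → q * s = s * q → r * s = s * r →
    (p * q * p⁻¹ * q⁻¹) * r = r * (p * q * p⁻¹ * q⁻¹)
  /-- with elementary abelian centre -/
  p4' : ∀ s : L, s * s = 1 → s ≠ 1 → ∀ p : L, p * s = s * p → (∀ r, r * s = s * r → r * p = p * r) →
    p * p = 1
  /-- `x` interchanges the two `2⁴` of `C_L(s)`, `s ∈ C_L(x)` -/
  p5 : ∀ s i : L, s * s = 1 → s ≠ 1 → x s = s → i * i = 1 → i * s = s * i →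
    (∃ p, p * s = s * p ∧ p * i ≠ i * p) → i * x i ≠ x i * i

end Cfsg.Agent.UGT.ThEL34
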