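import Cfsg.Agent.UGT.ThEL34.End
import Cfsg.Agent.UGT.CE.Main

/-!
# `C(e) ≤ N(L)` for the bad involutions `e` gives the hypotheses of Theorem E
-/

set_option autoImplicit false

open Subgroup

namespace Cfsg.Agent.UGT.ThEL34.Glue

open Cfsg.Agent.UGT.ThE.Base (comm_of_mem IsT IsS)
open Cfsg.Agent.UGT.CE (Conf)

universe u

variable {G : Type u} [Group G] {L : Subgroup G} {x : G}

/-- every `t` commutes with another one if there are two commuting ones -/
theorem rk_of [Finite G] {t u : G} (ht : IsT L x t) (hu : IsT L x u) (hne : t ≠ u) (htu : t * u = u * t)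
    (v : G) (hv : IsT L x v) : ∃ w, IsT L x w ∧ w ≠ v ∧ w * v = v * w := by
  have hm : ∀ {w}, IsT L x w → w ∈ centralizer (L : Set G) ⊓ centralizer ({x} : Set G) := fun h =>
    ⟨h.mem, mem_centralizer_singleton_iff.mpr h.comm⟩
  obtain ⟨a, ha, b, hb, ha2, hb2, hab, ha1, hb1, hne', hva, hvb⟩ := CE.exists_four_commute' (hm ht) (hm hu)
    ht.sq hu.sq htu ht.ne hu.ne hne (hm hv) hv.sq
  by_cases h : a = v
  · refine ⟨b, ⟨hb.1, mem_centralizer_singleton_iff.mp hb.2, hb2, hb1⟩, ?_, hvb.symm⟩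
    rintro rfl
    exact hne' h
  · exact ⟨a, ⟨ha.1, mem_centralizer_singleton_iff.mp ha.2, ha2, ha1⟩, h, hva.symm⟩

theorem hyp_of_conf [Finite G] {O Y J : G → Subgroup G} {B : G → Prop} (C : Conf O Y J L B) (hx : B x)
    (hxt : ∀ t, IsT L x t → B (x * t)) (hF : ∃ X : MulAut L, Acts L x X ∧ Facts2 X) : Hyp L x where
  xx := C.sq hx
  facts2 := hF
  nc := C.nc
  Cx := fun _ hc => C.main hx hc
  Ct := C.Ct hx
  Cxt := fun t ht _ hc => C.main (hxt t ht) hc
  four := by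
    obtain ⟨t, u, ht, -⟩ := C.four hx
    exact ⟨t, ht⟩
  rk := by
    obtain ⟨t, u, ht, hu, hne, htu⟩ := C.four hx
    exact rk_of ht hu hne htu

/-- `x ∈ X = G` -/
theorem false_of_conf_in [Finite G] {O Y J : G → Subgroup G} {B : G → Prop} (C : Conf O Y J L B) (hx : B x)
    (hxt : ∀ t, IsT L x t → B (x * t)) (hF : ∃ X : MulAut L, Acts L x X ∧ Facts2 X)
    (hG : Parity.NoSign G) : False :=
  (hyp_of_conf C hx hxt hF).false_of_noSign hG

/-- `x ∉ S`, `G = S⟨x⟩` -/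
theorem false_of_conf_out [Finite G] {O Y J : G → Subgroup G} {B : G → Prop} (C : Conf O Y J L B) (hx : B x)
    (hxt : ∀ t, IsT L x t → B (x * t)) (hF : ∃ X : MulAut L, Acts L x X ∧ Facts2 X) {S : Subgroup G}
    (SN : S.Normal) (xS : x ∉ S) (LS : L ≤ S) (tS : ∀ t, IsT L x t → t ∈ S)
    (sgn : ∀ f : G →* ℤˣ, ∀ s ∈ S, f s = 1)
    (hmin : ∀ N : Subgroup G, N.Normal → N ≤ S → N ≠ ⊥ → S ≤ N) (htop : ∀ g : G, g ∈ S ∨ g * x ∈ S) :
    False :=
  Out.false_of (S := S) (L := L) (x := x)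
    { toHyp := hyp_of_conf C hx hxt hF, SN := SN, xS := xS, LS := LS, tS := tS, sgn := sgn } hmin htop

end Cfsg.Agent.UGT.ThEL34.Glue
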