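import Cfsg.Agent.UGT.ThEL34.EndA

/-!
# Theorem E for `L₃(4)`, IX: (E8)(d), (E9), the end for `x ∉ X`
-/

set_option autoImplicit false

open Subgroup
open scoped commutatorElement

namespace Cfsg.Agent.UGT.ThEL34

open Cfsg.Agent.UGT.ThE.Base (comm_of_mem L_conj L_conj' K_le_M L_le_M K_conj K_conj' IsT IsS IsT1 exists_central
  exists_sqrt)

variable {G : Type*} [Group G]

namespace Out

variable {S L : Subgroup G} {x : G} (H : Out S L x)
include H

/-- **(E8)** -/
theorem e8 [Finite G] {s t₁ m : G} (hs : IsS L x s) (ht₁ : IsT1 L x t₁)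
    (hm : m * (s * t₁) = s * t₁ * m) : m ∈ normalizer (L : Set G) := by
  by_contra hmM
  have h0 := H.hyp0
  obtain ⟨X, hX, F⟩ := H.facts
  have hmi := inv_comm hm
  obtain ⟨s', hs'⟩ : ∃ s' : L, s' = ⟨s, hs.mem⟩ := ⟨_, rfl⟩
  have hs'G : (s' : G) = s := by rw [hs']
  have hss : s' * s' = 1 := Subtype.ext (by
    change (s' : G) * s' = 1
    rw [hs'G]; exact hs.sq)
  have hs1 : s' ≠ 1 := fun h => hs.ne (by rw [← hs'G, h]; rfl)
  obtain ⟨t₀, ht₀⟩ : ∃ t₀, t₀ = s * t₁ := ⟨_, rfl⟩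
  have htx : t₀ * x = x * t₀ := by
    rw [ht₀]
    calc s * t₁ * x = s * (t₁ * x) := by group
      _ = (s * x) * t₁ := by rw [ht₁.comm]; group
      _ = x * (s * t₁) := by rw [hs.comm]; group
  obtain ⟨W, hW⟩ : ∃ W, W = closure {w | ∃ n v, n * t₀ = t₀ * n ∧ IsT L x v ∧ v * t₀ = t₀ * v ∧
    w = n * v * n⁻¹} := ⟨_, rfl⟩
  have hgen : ∀ n v, n * t₀ = t₀ * n → IsT L x v → v * t₀ = t₀ * v → n * v * n⁻¹ ∈ W := by
    intro n v h1 h2 h3
    rw [hW]
    exact subset_closure ⟨n, v, h1, h2, h3, rfl⟩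
  have hWM : W ≤ normalizer (L : Set G) := by
    rw [hW, closure_le]
    rintro w ⟨n, v, h1, h2, h3, rfl⟩
    rw [ht₀] at h1 h3
    exact H.e6 hs ht₁ h2 h3 h1
  have hWt : W ≤ centralizer ({t₀} : Set G) := by
    rw [hW, closure_le]
    rintro w ⟨n, v, h1, h2, h3, rfl⟩
    rw [SetLike.mem_coe]
    have hn : n ∈ centralizer ({t₀} : Set G) := mem_centralizer_singleton_iff.mpr h1
    have hv : v ∈ centralizer ({t₀} : Set G) := mem_centralizer_singleton_iff.mpr h3
    exact mul_mem (mul_mem hn hv) (inv_mem hn)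
  have hWn : ∀ c, c * t₀ = t₀ * c → ∀ w ∈ W, c * w * c⁻¹ ∈ W := by
    intro c hc w hw
    rw [hW] at hw
    induction hw using closure_induction with
    | mem w hw =>
      obtain ⟨n, v, h1, h2, h3, rfl⟩ := hw
      have : c * (n * v * n⁻¹) * c⁻¹ = (c * n) * v * (c * n)⁻¹ := by group
      rw [this]
      exact hgen _ v (by
        calc c * n * t₀ = c * (n * t₀) := by group
          _ = (c * t₀) * n := by rw [h1]; group
          _ = t₀ * (c * n) := by rw [hc]; group) h2 h3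
    | one => rw [mul_one, mul_inv_cancel]; exact one_mem _
    | mul y z _ _ h1 h2 =>
      have : c * (y * z) * c⁻¹ = (c * y * c⁻¹) * (c * z * c⁻¹) := by group
      rw [this]
      exact mul_mem h1 h2
    | inv y _ h1 =>
      have : c * y⁻¹ * c⁻¹ = (c * y * c⁻¹)⁻¹ := by group
      rw [this]
      exact inv_mem h1
  have hm0 : m * t₀ = t₀ * m := by rw [ht₀]; exact hm
  -- the action of `W` on `m L m⁻¹`
  have hQ : ∀ w ∈ W, ∃ p : L, p * s' = s' * p ∧ Acts L (m⁻¹ * w * m) (MulAut.conj p) := by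
    intro w hw
    rw [hW] at hw
    induction hw using closure_induction with
    | mem w hw =>
      obtain ⟨n, v, h1, h2, h3, rfl⟩ := hw
      have e1 : m⁻¹ * (n * v * n⁻¹) * m = (n⁻¹ * m)⁻¹ * v * (n⁻¹ * m) := by group
      have e2 : (n⁻¹ * m) * t₀ = t₀ * (n⁻¹ * m) := by
        calc n⁻¹ * m * t₀ = n⁻¹ * (m * t₀) := by group
          _ = (n⁻¹ * t₀) * m := by rw [hm0]; group
          _ = t₀ * (n⁻¹ * m) := by rw [inv_comm h1]; group
      rw [e1]
      by_cases h4 : n⁻¹ * m ∈ normalizer (L : Set G)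
      · refine ⟨1, by rw [one_mul, mul_one], ?_⟩
        rw [map_one, acts_one_iff]
        exact K_conj' h4 h2.mem
      · rw [ht₀] at e2 h3
        obtain ⟨i, hi, -, -, his, -⟩ := H.e8b F hs ht₁ e2 h4 h2 h3
        rw [← hs'] at his
        exact ⟨i, his, hi⟩
    | one =>
      refine ⟨1, by rw [one_mul, mul_one], ?_⟩
      rw [map_one, acts_one_iff]
      have : m⁻¹ * 1 * m = 1 := by group
      rw [this]
      exact one_mem _
    | mul y z _ _ h1 h2 =>
      obtain ⟨p, hp, h3⟩ := h1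
      obtain ⟨q, hq, h4⟩ := h2
      refine ⟨p * q, ?_, ?_⟩
      · calc p * q * s' = p * (q * s') := by group
          _ = (p * s') * q := by rw [hq]; group
          _ = s' * (p * q) := by rw [hp]; group
      · have h5 := h3.mul h4
        have h6 : m⁻¹ * y * m * (m⁻¹ * z * m) = m⁻¹ * (y * z) * m := by group
        rw [h6, ← map_mul] at h5
        exact h5
    | inv y _ h1 =>
      obtain ⟨p, hp, h3⟩ := h1
      refine ⟨p⁻¹, inv_comm hp, ?_⟩
      have h5 := h3.inv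
      have h6 : (m⁻¹ * y * m)⁻¹ = m⁻¹ * y⁻¹ * m := by group
      rw [h6, ← map_inv] at h5
      exact h5
  -- the commutator subgroup acts as central elements of `C_L(s)`
  have hQ2 : ∀ w ∈ ⁅W, W⁆, ∃ p : L, p * s' = s' * p ∧ (∀ r, r * s' = s' * r → p * r = r * p) ∧
      Acts L (m⁻¹ * w * m) (MulAut.conj p) := by
    intro w hw
    rw [Subgroup.commutator_def] at hw
    induction hw using closure_induction with
    | mem w hw =>
      obtain ⟨y, hy, z, hz, rfl⟩ := hw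
      obtain ⟨p, hp, h3⟩ := hQ y hy
      obtain ⟨q, hq, h4⟩ := hQ z hz
      refine ⟨p * q * p⁻¹ * q⁻¹, ?_, fun r hr => F.p4 s' hss hs1 p q r hp hq hr, ?_⟩
      · exact F.p4 s' hss hs1 p q s' hp hq rfl
      · have h5 := ((h3.mul h4).mul h3.inv).mul h4.inv
        have h6 : m⁻¹ * y * m * (m⁻¹ * z * m) * (m⁻¹ * y * m)⁻¹ * (m⁻¹ * z * m)⁻¹ =
            m⁻¹ * ⁅y, z⁆ * m := by
          rw [commutatorElement_def]; group
        rw [h6] at h5
        rw [map_mul, map_mul, map_mul, map_inv, map_inv]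
        exact h5
    | one =>
      refine ⟨1, by rw [one_mul, mul_one], fun r _ => by rw [one_mul, mul_one], ?_⟩
      rw [map_one, acts_one_iff]
      have : m⁻¹ * 1 * m = 1 := by group
      rw [this]
      exact one_mem _
    | mul y z _ _ h1 h2 =>
      obtain ⟨p, hp, hp2, h3⟩ := h1
      obtain ⟨q, hq, hq2, h4⟩ := h2
      refine ⟨p * q, ?_, fun r hr => ?_, ?_⟩
      · calc p * q * s' = p * (q * s') := by group
          _ = (p * s') * q := by rw [hq]; group
          _ = s' * (p * q) := by rw [hp]; group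
      · calc p * q * r = p * (q * r) := by group
          _ = (p * r) * q := by rw [hq2 r hr]; group
          _ = r * (p * q) := by rw [hp2 r hr]; group
      · have h5 := h3.mul h4
        have h6 : m⁻¹ * y * m * (m⁻¹ * z * m) = m⁻¹ * (y * z) * m := by group
        rw [h6, ← map_mul] at h5
        exact h5
    | inv y _ h1 =>
      obtain ⟨p, hp, hp2, h3⟩ := h1
      refine ⟨p⁻¹, inv_comm hp, fun r hr => inv_comm (hp2 r hr), ?_⟩
      have h5 := h3.inv
      have h6 : (m⁻¹ * y * m)⁻¹ = m⁻¹ * y⁻¹ * m := by group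
      rw [h6, ← map_inv] at h5
      exact h5
  -- the commutator of `v` with its conjugate under `m x m⁻¹`
  obtain ⟨v, -, hvT, -, -, -, hvc, -⟩ := H.exists_pair hs ht₁
  have hvc' : v * t₀ = t₀ * v := by rw [ht₀]; exact hvc
  obtain ⟨i, hi, hii, hi1, his, hins⟩ := H.e8b F hs ht₁ hm hmM hvT hvc
  have hip := H.e8c' F hs ht₁ hm hmM hvT hvc hi
  rw [← hs'] at his hip
  have hmx : (m * x * m⁻¹) * t₀ = t₀ * (m * x * m⁻¹) := by
    calc m * x * m⁻¹ * t₀ = m * x * (m⁻¹ * t₀) := by group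
      _ = m * (x * t₀) * m⁻¹ := by rw [inv_comm hm0]; group
      _ = (m * t₀) * x * m⁻¹ := by rw [← htx]; group
      _ = t₀ * (m * x * m⁻¹) := by rw [hm0]; group
  obtain ⟨w, hwd⟩ : ∃ w, w = (m * x * m⁻¹) * v * (m * x * m⁻¹)⁻¹ := ⟨_, rfl⟩
  have hwW : w ∈ W := by rw [hwd]; exact hgen _ v hmx hvT hvc'
  have hvW : v ∈ W := by
    have := hgen 1 v (by rw [one_mul, mul_one]) hvT hvc'
    rwa [one_mul, inv_one, mul_one] at this
  obtain ⟨g₀, hg₀⟩ : ∃ g₀, g₀ = v * w * v⁻¹ * w⁻¹ := ⟨_, rfl⟩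
  have hg₀W : g₀ ∈ ⁅W, W⁆ := by
    rw [hg₀, ← commutatorElement_def]
    exact commutator_mem_commutator hvW hwW
  have hg₀K : g₀ ∈ centralizer (L : Set G) := by
    have : g₀ = v * (w * v⁻¹ * w⁻¹) := by rw [hg₀]; group
    rw [this]
    exact mul_mem hvT.mem (K_conj (hWM hwW) (inv_mem hvT.mem))
  have hwa : Acts L (m⁻¹ * w * m) (MulAut.conj (X i)) := by
    have h1 := (hX.mul hi).mul hX.inv
    have h2 : x * (m⁻¹ * v * m) * x⁻¹ = m⁻¹ * w * m := by rw [hwd]; group
    rw [h2, conj_conj] at h1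
    exact h1
  obtain ⟨q, hq⟩ : ∃ q : L, q = i * X i * i⁻¹ * (X i)⁻¹ := ⟨_, rfl⟩
  have hg₀a : Acts L (m⁻¹ * g₀ * m) (MulAut.conj q) := by
    have h1 := ((hi.mul hwa).mul hi.inv).mul hwa.inv
    have h2 : m⁻¹ * v * m * (m⁻¹ * w * m) * (m⁻¹ * v * m)⁻¹ * (m⁻¹ * w * m)⁻¹ = m⁻¹ * g₀ * m := by
      rw [hg₀]; group
    rw [h2] at h1
    rw [hq, map_mul, map_mul, map_mul, map_inv, map_inv]
    exact h1
  have hXs : X s' = s' := (hX.fix_iff s').mpr (by rw [hs'G]; exact hs.comm.symm)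
  have hq1 : q ≠ 1 := by
    intro h
    apply F.p5 s' i hss hs1 hXs hii his hip
    rw [hq, mul_inv_eq_one, mul_inv_eq_iff_eq_mul] at h
    exact h
  obtain ⟨q', hq's, hq'c, hq'⟩ := hQ2 g₀ hg₀W
  have e1 : q' = q := F.conj_inj (hq'.uniq hg₀a)
  rw [e1] at hq's hq'c
  have hqq : q * q = 1 := F.p4' s' hss hs1 q hq's (fun r hr => (hq'c r hr).symm)
  obtain ⟨D, hD⟩ : ∃ D, D = ⁅W, W⁆ ⊓ centralizer (L : Set G) := ⟨_, rfl⟩
  have hev : 2 ∣ Nat.card D := by
    have hgD : g₀ ∈ D := by rw [hD]; exact ⟨hg₀W, hg₀K⟩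
    have h1 : orderOf g₀ ∣ Nat.card D := by
      have := orderOf_dvd_natCard (⟨g₀, hgD⟩ : D)
      rwa [Subgroup.orderOf_mk] at this
    refine dvd_trans ?_ h1
    by_contra hodd
    have hodd' : Odd (orderOf g₀) := by
      rw [← Nat.not_even_iff_odd]
      intro h
      exact hodd h.two_dvd
    obtain ⟨N, hN⟩ := hodd'
    have h2 : g₀ ^ (2 * N + 1) = 1 := by rw [← hN]; exact pow_orderOf_eq_one g₀
    have h3 : ∀ n : ℕ, Acts L (m⁻¹ * g₀ ^ n * m) (MulAut.conj (q ^ n)) := by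
      intro n
      induction n with
      | zero =>
        rw [pow_zero, pow_zero, map_one, acts_one_iff]
        have : m⁻¹ * 1 * m = 1 := by group
        rw [this]
        exact one_mem _
      | succ n ih =>
        have h5 := ih.mul hg₀a
        have h6 : m⁻¹ * g₀ ^ n * m * (m⁻¹ * g₀ * m) = m⁻¹ * g₀ ^ (n + 1) * m := by
          rw [pow_succ]; group
        rw [h6, ← map_mul, ← pow_succ] at h5
        exact h5
    have h4 := h3 (2 * N + 1)
    rw [h2, pow_succ, pow_mul, pow_two, hqq, one_pow, one_mul] at h4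
    have h5 : m⁻¹ * 1 * m = 1 := by group
    rw [h5] at h4
    exact hq1 (F.cl q (h4.uniq acts_one))
  have hxDn : ∀ d ∈ D, MulAut.conj x d ∈ D := by
    intro d hd
    rw [hD] at hd ⊢
    refine ⟨?_, ?_⟩
    · have h1 : MulAut.conj x d ∈ (⁅W, W⁆).map (MulAut.conj x).toMonoidHom := ⟨d, hd.1, rfl⟩
      rw [map_commutator] at h1
      have h2 : W.map (MulAut.conj x).toMonoidHom ≤ W := by
        rintro _ ⟨w, hw, rfl⟩
        exact hWn x htx.symm w hw
      exact commutator_mono h2 h2 h1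
    · exact K_conj h0.xM hd.2
  obtain ⟨z, hz, hzz, hz1, hzx⟩ := exists_fixed_inv (MulAut.conj x) (by
    rw [← map_mul, H.xx, map_one]) D hxDn hev
  rw [hD] at hz
  have hzx' : z * x = x * z := by
    have h1 : x * z * x⁻¹ = z := hzx
    calc z * x = (x * z * x⁻¹) * x := by rw [h1]
      _ = x * z := by group
  have hzT : IsT L x z := ⟨hz.2, hzx', hzz, hz1⟩
  have hzt : z * (s * t₁) = s * t₁ * z := by
    have h1 : z ∈ W := commutator_le_self W hz.1
    rw [← ht₀]
    exact mem_centralizer_singleton_iff.mp (hWt h1)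
  obtain ⟨j, hj, -, -, -, -⟩ := H.e8b F hs ht₁ hm hmM hzT hzt
  obtain ⟨p, hp, hpj⟩ := H.e8c' F hs ht₁ hm hmM hzT hzt hj
  rw [← hs'] at hp
  obtain ⟨k, -, hkc, hk⟩ := hQ2 z hz.1
  have e2 : k = j := F.conj_inj (hk.uniq hj)
  rw [e2] at hkc
  exact hpj (hkc p hp).symm

/-- (E9) -/
theorem e9 [Finite G] {v : G} (hv : IsT L x v) (g : G) : g * v * g⁻¹ ∈ normalizer (L : Set G) := by
  rcases H.link_cases (g := g) hv with h | ⟨e, heS, hee, he1, hex, hez, -, -⟩
  · exact h
  · rcases H.cls' heS hex hee he1 with h1 | ⟨s', hs', t', ht', h1⟩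
    · exact H.Ct e h1 _ hez.symm
    · rw [h1] at hez
      exact H.e8 hs' ht' hez.symm

/-- **Theorem E for `L₃(4)`, `x ∉ X`.** -/
theorem false_of [Finite G] (hmin : ∀ N : Subgroup G, N.Normal → N ≤ S → N ≠ ⊥ → S ≤ N)
    (hcov : ∀ g, g ∈ S ∨ g * x ∈ S) : False := by
  obtain ⟨v, hv⟩ := H.four
  have hXM : S ≤ normalizer (L : Set G) := by
    refine (hmin (normalClosure {v}) inferInstance ?_ ?_).trans ?_
    · have := H.SN
      exact normalClosure_le_normal (Set.singleton_subset_iff.mpr (H.tS v hv))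
    · intro h
      have h1 : v ∈ normalClosure {v} := subset_normalClosure (Set.mem_singleton v)
      rw [h, mem_bot] at h1
      exact hv.ne h1
    · rw [normalClosure, closure_le]
      intro y hy
      obtain ⟨a, ha, hay⟩ := Group.mem_conjugatesOfSet_iff.mp hy
      rw [Set.mem_singleton_iff] at ha
      rw [ha] at hay
      obtain ⟨c, hc⟩ := isConj_iff.mp hay
      rw [← hc]
      exact H.e9 hv c
  have hLn : L.Normal := ⟨fun l hl g => by
    rcases hcov g with h | h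
    · exact L_conj (hXM h) hl
    · have h1 : g = g * x * x⁻¹ := by group
      exact L_conj (h1 ▸ mul_mem (hXM h) (inv_mem H.hyp0.xM)) hl⟩
  have hL : L ≠ ⊥ := by
    intro h
    apply H.nc 1
    intro l hl
    rw [h, mem_bot] at hl
    rw [hl]
    simp
  have h1 := hmin L hLn H.LS hL (H.tS v hv)
  exact hv.ne (H.hyp0.disj h1 hv.mem)

end Out

end Cfsg.Agent.UGT.ThEL34
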