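import Cfsg.Agent.UGT.ThEL34.LinkE

/-!
# Theorem E for `L₃(4)`, VIII: (E8)(a), (b), (c)
-/

set_option autoImplicit false

open Subgroup

namespace Cfsg.Agent.UGT.ThEL34

open Cfsg.Agent.UGT.ThE.Base (comm_of_mem L_conj L_conj' K_le_M L_le_M K_conj K_conj' IsT IsS IsT1 exists_central
  exists_sqrt)

variable {G : Type*} [Group G]

/-- `g L g⁻¹ ≤ M` if `g` maps the fixed points of two commuting wild automorphisms with product in `X Inn`
into `M` -/
theorem gen_le2 {L : Subgroup G} {X : MulAut L} (F : Facts X) {a b : MulAut L} (ha : Wild X a)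
    (hb : Wild X b) (hab : a * b = b * a) (h : ∃ l, a * b = X * MulAut.conj l) {g : G}
    (h1 : ∀ j : L, a j = j → g * (j : G) * g⁻¹ ∈ normalizer (L : Set G))
    (h2 : ∀ j : L, b j = j → g * (j : G) * g⁻¹ ∈ normalizer (L : Set G)) :
    ∀ l ∈ L, g * l * g⁻¹ ∈ normalizer (L : Set G) := by
  obtain ⟨S, hS⟩ : ∃ S : Subgroup L, ∀ l : L, l ∈ S ↔ g * (l : G) * g⁻¹ ∈ normalizer (L : Set G) :=
    ⟨(normalizer (L : Set G)).comap ((MulAut.conj g).toMonoidHom.comp L.subtype), fun l => Iff.rfl⟩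
  have h3 : (⊤ : Subgroup L) ≤ S := by
    rw [← F.wpair a b ha hb hab h]
    exact sup_le (fun j hj => (hS j).mpr (h1 j hj)) (fun j hj => (hS j).mpr (h2 j hj))
  intro l hl
  exact (hS ⟨l, hl⟩).mp (h3 (mem_top _))

theorem inv_comm {m t : G} (hm : m * t = t * m) : m⁻¹ * t = t * m⁻¹ := by
  calc m⁻¹ * t = m⁻¹ * (t * m) * m⁻¹ := by group
    _ = m⁻¹ * (m * t) * m⁻¹ := by rw [hm]
    _ = _ := by group

namespace Out

variable {S L : Subgroup G} {x : G} (H : Out S L x)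
include H

/-- (E8)(a) -/
theorem e8a [Finite G] {s t₁ m v : G} (hs : IsS L x s) (ht₁ : IsT1 L x t₁)
    (hm : m * (s * t₁) = s * t₁ * m) (hmM : m ∉ normalizer (L : Set G)) (hvT : IsT L x v)
    (hvc : v * (s * t₁) = s * t₁ * v) : m⁻¹ * v * m * s ∉ centralizer (L : Set G) := by
  intro hvs
  have h0 := H.hyp0
  have hmi := inv_comm hm
  have hvM : m⁻¹ * v * m ∈ normalizer (L : Set G) := by
    have := H.e6 (m := m⁻¹) hs ht₁ hvT hvc hmi
    rwa [inv_inv] at this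
  have hnK : m⁻¹ * v * m ∉ centralizer (L : Set G) := fun h1 => hmM (h0.fixT hvT h1)
  obtain ⟨v', hv'⟩ : ∃ v', v' = m⁻¹ * v * m := ⟨_, rfl⟩
  rw [← hv'] at hvs hvM hnK
  have hsv : s * v = v * s := comm_of_mem hs.mem hvT.mem
  have hvt : v * t₁ = t₁ * v := by
    apply mul_left_cancel (a := s)
    calc s * (v * t₁) = (s * v) * t₁ := by group
      _ = v * (s * t₁) := by rw [hsv]; group
      _ = s * (t₁ * v) := by rw [hvc]; group
  have ht₂ : IsT1 L x (v * t₁) := hvT.isT1.mul ht₁ hvt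
  have hvc₂ : v * (s * (v * t₁)) = s * (v * t₁) * v := by
    calc v * (s * (v * t₁)) = (v * s) * v * t₁ := by group
      _ = s * v * (v * t₁) := by rw [← hsv]; group
      _ = s * v * (t₁ * v) := by rw [hvt]
      _ = s * (v * t₁) * v := by group
  have hLm : ∀ l ∈ L, (m * l * m⁻¹) * (s * (v * t₁)) = s * (v * t₁) * (m * l * m⁻¹) := by
    intro l hl
    have h1 : m⁻¹ * (s * (v * t₁)) * m = v' * s * t₁ := by
      calc m⁻¹ * (s * (v * t₁)) * m = m⁻¹ * (s * v) * t₁ * m := by group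
        _ = m⁻¹ * v * (s * t₁ * m) := by rw [hsv]; group
        _ = m⁻¹ * v * (m * (s * t₁)) := by rw [hm]
        _ = v' * s * t₁ := by rw [hv']; group
    have h2 := comm_of_mem hl (mul_mem hvs ht₁.mem)
    rw [← h1] at h2
    calc (m * l * m⁻¹) * (s * (v * t₁)) = m * (l * (m⁻¹ * (s * (v * t₁)) * m)) * m⁻¹ := by group
      _ = m * (m⁻¹ * (s * (v * t₁)) * m * l) * m⁻¹ := by rw [h2]
      _ = _ := by group
  have hconj : ∀ l ∈ L, m * (l * v' * l⁻¹ * v'⁻¹) * m⁻¹ ∈ normalizer (L : Set G) := by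
    intro l hl
    have h1 := H.e6 (m := m * l * m⁻¹) hs ht₂ hvT hvc₂ (hLm l hl)
    have h2 : m * (l * v' * l⁻¹ * v'⁻¹) * m⁻¹ = (m * l * m⁻¹) * v * (m * l * m⁻¹)⁻¹ * v⁻¹ := by
      rw [hv']; group
    rw [h2]
    exact mul_mem h1 (inv_mem (K_le_M hvT.mem))
  obtain ⟨D, hD⟩ : ∃ D, D = closure {d | ∃ l ∈ L, d = l * v' * l⁻¹ * v'⁻¹} := ⟨_, rfl⟩
  have hDL : D ≤ L := by
    rw [hD, closure_le]
    rintro d ⟨l, hl, rfl⟩
    have : l * v' * l⁻¹ * v'⁻¹ = l * (v' * l⁻¹ * v'⁻¹) := by group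
    rw [this]
    exact mul_mem hl (L_conj hvM (inv_mem hl))
  have hDn : ∀ l ∈ L, ∀ n ∈ D, l * n * l⁻¹ ∈ D := by
    intro a ha n hn
    rw [hD] at hn
    induction hn using closure_induction with
    | mem d hd =>
      obtain ⟨l, hl, rfl⟩ := hd
      have h1 : a * (l * v' * l⁻¹ * v'⁻¹) * a⁻¹ =
          ((a * l) * v' * (a * l)⁻¹ * v'⁻¹) * (a * v' * a⁻¹ * v'⁻¹)⁻¹ := by group
      rw [h1, hD]
      exact mul_mem (subset_closure ⟨a * l, mul_mem ha hl, rfl⟩)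
        (inv_mem (subset_closure ⟨a, ha, rfl⟩))
    | one => rw [mul_one, mul_inv_cancel]; exact one_mem _
    | mul y z _ _ h1 h2 =>
      have : a * (y * z) * a⁻¹ = (a * y * a⁻¹) * (a * z * a⁻¹) := by group
      rw [this]
      exact mul_mem h1 h2
    | inv y _ h1 =>
      have : a * y⁻¹ * a⁻¹ = (a * y * a⁻¹)⁻¹ := by group
      rw [this]
      exact inv_mem h1
  have hDeq : D = L := by
    rcases h0.simp D hDL hDn with h1 | h1
    · exfalso
      apply hnK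
      rw [mem_centralizer_iff]
      intro l hl
      have h2 : l * v' * l⁻¹ * v'⁻¹ ∈ D := by
        rw [hD]; exact subset_closure ⟨l, hl, rfl⟩
      rw [h1, mem_bot] at h2
      calc l * v' = (l * v' * l⁻¹ * v'⁻¹) * (v' * l) := by group
        _ = v' * l := by rw [h2, one_mul]
    · exact h1
  have hL1 : ∀ l ∈ L, m * l * m⁻¹ ∈ normalizer (L : Set G) := by
    intro l hl
    rw [← hDeq, hD] at hl
    induction hl using closure_induction with
    | mem d hd =>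
      obtain ⟨l, hl, rfl⟩ := hd
      exact hconj l hl
    | one => rw [mul_one, mul_inv_cancel]; exact one_mem _
    | mul y z _ _ h1 h2 =>
      have : m * (y * z) * m⁻¹ = (m * y * m⁻¹) * (m * z * m⁻¹) := by group
      rw [this]
      exact mul_mem h1 h2
    | inv y _ h1 =>
      have : m * y⁻¹ * m⁻¹ = (m * y * m⁻¹)⁻¹ := by group
      rw [this]
      exact inv_mem h1
  have h1 := h0.z3 hL1 hvT.mem (by rw [← hv']; exact hvM)
  rw [← hv'] at h1
  exact hnK h1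

omit H in
/-- elements of `C_K(x) ∩ C(s t₁)` -/
theorem comm_t {s t₁ v : G} (hs : IsS L x s) (hv : v ∈ centralizer (L : Set G)) :
    v * (s * t₁) = s * t₁ * v ↔ v * t₁ = t₁ * v := by
  have hsv : s * v = v * s := comm_of_mem hs.mem hv
  constructor
  · intro h
    apply mul_left_cancel (a := s)
    calc s * (v * t₁) = (s * v) * t₁ := by group
      _ = v * (s * t₁) := by rw [hsv]; group
      _ = s * (t₁ * v) := by rw [h]; group
  · intro h
    calc v * (s * t₁) = (v * s) * t₁ := by group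
      _ = s * (v * t₁) := by rw [← hsv]; group
      _ = s * t₁ * v := by rw [h]; group

/-- a second involution -/
theorem exists_snd {s t₁ v : G} (hs : IsS L x s) (ht₁ : IsT1 L x t₁) (hvT : IsT L x v)
    (hvc : v * (s * t₁) = s * t₁ * v) :
    ∃ u, IsT L x u ∧ u * (s * t₁) = s * t₁ * u ∧ v * u = u * v ∧ IsT L x (v * u) ∧
      v * u * (s * t₁) = s * t₁ * (v * u) := by
  have h1 := (comm_t hs hvT.mem).mp hvc
  have key : ∀ u, IsT L x u → u * t₁ = t₁ * u → v * u = u * v → v ≠ u →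
      ∃ u, IsT L x u ∧ u * (s * t₁) = s * t₁ * u ∧ v * u = u * v ∧ IsT L x (v * u) ∧
      v * u * (s * t₁) = s * t₁ * (v * u) := by
    intro u hu hut hvu hne
    have h2 := (comm_t (t₁ := t₁) hs hu.mem).mpr hut
    refine ⟨u, hu, h2, hvu, (hvT.isT1.mul hu.isT1 hvu).isT ?_, ?_⟩
    · intro h
      apply hne
      rw [eq_inv_of_mul_eq_one_left h, inv_eq_of_mul_eq_one_left hu.sq]
    · calc v * u * (s * t₁) = v * (u * (s * t₁)) := by group
        _ = (v * (s * t₁)) * u := by rw [h2]; group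
        _ = _ := by rw [hvc]; group
  by_cases ht : t₁ = 1
  · obtain ⟨u, hu, huv, hc⟩ := H.rk v hvT
    exact key u hu (by rw [ht]; group) hc.symm (fun h => huv h.symm)
  · by_cases hvt : v = t₁
    · obtain ⟨u, hu, huv, hc⟩ := H.rk v hvT
      exact key u hu (by rw [← hvt]; exact hc) hc.symm (fun h => huv h.symm)
    · exact key t₁ (ht₁.isT ht) rfl h1 hvt

omit H in
/-- `m j m⁻¹` commutes with `v` if `j` is fixed by the action of `m⁻¹ v m` -/
theorem comm_of_fix {m v : G} {a : MulAut L} (ha : Acts L (m⁻¹ * v * m) a) {j : L} (hj : a j = j) :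
    m * (j : G) * m⁻¹ * v = v * (m * (j : G) * m⁻¹) := by
  have h1 := (ha.fix_iff j).mp hj
  calc m * (j : G) * m⁻¹ * v = m * (j * (m⁻¹ * v * m)) * m⁻¹ := by group
    _ = m * (m⁻¹ * v * m * j) * m⁻¹ := by rw [h1]
    _ = _ := by group

/-- (E8)(b), first part: no element acts wildly -/
theorem e8w [Finite G] {X : MulAut L} (F : Facts X) {s t₁ m v : G} (hs : IsS L x s)
    (ht₁ : IsT1 L x t₁) (hm : m * (s * t₁) = s * t₁ * m) (hmM : m ∉ normalizer (L : Set G))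
    (hvT : IsT L x v) (hvc : v * (s * t₁) = s * t₁ * v) {a : MulAut L} (ha : Acts L (m⁻¹ * v * m) a) :
    ¬ Wild X a := by
  intro hw
  have h0 := H.hyp0
  have hmi := inv_comm hm
  have hM : ∀ f, IsT L x f → f * (s * t₁) = s * t₁ * f → m⁻¹ * f * m ∈ normalizer (L : Set G) := by
    intro f hfT hfc
    have := H.e6 (m := m⁻¹) hs ht₁ hfT hfc hmi
    rwa [inv_inv] at this
  have hnK : ∀ f, IsT L x f → m⁻¹ * f * m ∉ centralizer (L : Set G) :=
    fun f hfT h1 => hmM (h0.fixT hfT h1)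
  have sqc : ∀ f, IsT L x f → m⁻¹ * f * m * (m⁻¹ * f * m) = 1 := by
    intro f hfT
    calc m⁻¹ * f * m * (m⁻¹ * f * m) = m⁻¹ * (f * f) * m := by group
      _ = 1 := by rw [hfT.sq]; group
  have hfalse : (∀ l ∈ L, m * l * m⁻¹ ∈ normalizer (L : Set G)) → False := fun h =>
    hnK v hvT (h0.z3 h hvT.mem ha.mem)
  have h1 : ∀ j : L, a j = j → m * (j : G) * m⁻¹ ∈ normalizer (L : Set G) := fun j hj =>
    H.Ct v hvT _ (comm_of_fix ha hj)
  obtain ⟨u, hu, huc, hvu, hvuT, hvuc⟩ := H.exists_snd hs ht₁ hvT hvc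
  obtain ⟨b, hb⟩ := exists_acts (hM u hu huc)
  have hab : Acts L (m⁻¹ * (v * u) * m) (a * b) := by
    have h2 := ha.mul hb
    have h3 : m⁻¹ * v * m * (m⁻¹ * u * m) = m⁻¹ * (v * u) * m := by group
    rwa [h3] at h2
  have hcab : a * b = b * a := ha.comm hb (by
    calc m⁻¹ * v * m * (m⁻¹ * u * m) = m⁻¹ * (v * u) * m := by group
      _ = m⁻¹ * (u * v) * m := by rw [hvu]
      _ = _ := by group)
  have hbb := hb.sq (sqc u hu)
  have haa := hw.sq
  -- an inner element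
  have hinn : ∀ (w : G) (c : MulAut L) (i : L), IsT L x w → Acts L (m⁻¹ * w * m) c → a * c = c * a →
      c = MulAut.conj i → False := by
    intro w c i hwT hc hac hci
    have hcc := hc.sq (sqc w hwT)
    rw [hci] at hcc
    have hi1 : i ≠ 1 := by
      rintro rfl
      rw [map_one] at hci
      exact hnK w hwT (hc.eq_one_iff.mp hci)
    refine hfalse (Hyp.gen_le F hw (i := i) (F.sq_of_conj hcc) hi1 ?_ h1 ?_)
    · rw [hci] at hac
      exact (F.comm_conj_iff a i).mp hac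
    · intro j hj
      apply H.Ct w hwT
      apply comm_of_fix hc
      rw [hci, MulAut.conj_apply, ← hj, mul_inv_cancel_right]
  by_cases hab1 : ∃ i, a * b = MulAut.conj i
  · obtain ⟨i, hi⟩ := hab1
    refine hinn (v * u) (a * b) i hvuT hab ?_ hi
    calc a * (a * b) = a * (b * a) := by rw [hcab]
      _ = a * b * a := by group
  have habab : a * b * (a * b) = 1 := hab.sq (sqc _ hvuT)
  have h2 : ∀ j : L, b j = j → m * (j : G) * m⁻¹ ∈ normalizer (L : Set G) := fun j hj =>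
    H.Ct u hu _ (comm_of_fix hb hj)
  have h3 : ∀ j : L, (a * b) j = j → m * (j : G) * m⁻¹ ∈ normalizer (L : Set G) := fun j hj =>
    H.Ct _ hvuT _ (comm_of_fix hab hj)
  rcases tri X hbb with ⟨i, hi⟩ | ⟨l, hl⟩ | hwb
  · exact hinn u b i hu hb hcab hi
  · have hwab : Wild X (a * b) := by
      refine ⟨habab, fun i hi => hab1 ⟨i, hi⟩, fun l' hl' => ?_⟩
      have h4 : a = MulAut.conj (X (l' * l⁻¹)) := by
        rw [← conj_conj, F.xinv, map_mul, map_inv]
        calc a = (a * b) * b⁻¹ := by group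
          _ = X * MulAut.conj l' * (X * MulAut.conj l)⁻¹ := by rw [hl', hl]
          _ = X * MulAut.conj l' * ((MulAut.conj l)⁻¹ * X⁻¹) := by group
          _ = _ := by rw [F.xinv]; group
      exact hw.inn _ h4
    refine hfalse (gen_le2 F hw hwab ?_ ⟨l, ?_⟩ h1 h3)
    · calc a * (a * b) = a * (b * a) := by rw [hcab]
        _ = a * b * a := by group
    · rw [← mul_assoc, haa, one_mul, hl]
  · rcases tri X habab with ⟨i, hi⟩ | hl | hwab
    · exact hab1 ⟨i, hi⟩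
    · exact hfalse (gen_le2 F hw hwb hcab hl h1 h2)
    · exact F.not_wild_mul hw hwb hwab

/-- (E8)(b): the elements act as inner automorphisms -/
theorem e8b [Finite G] {X : MulAut L} (F : Facts X) {s t₁ m v : G} (hs : IsS L x s)
    (ht₁ : IsT1 L x t₁) (hm : m * (s * t₁) = s * t₁ * m) (hmM : m ∉ normalizer (L : Set G))
    (hvT : IsT L x v) (hvc : v * (s * t₁) = s * t₁ * v) :
    ∃ i : L, Acts L (m⁻¹ * v * m) (MulAut.conj i) ∧ i * i = 1 ∧ i ≠ 1 ∧ i * ⟨s, hs.mem⟩ = ⟨s, hs.mem⟩ * i ∧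
      i ≠ ⟨s, hs.mem⟩ := by
  have h0 := H.hyp0
  have hmi := inv_comm hm
  have hM : ∀ f, IsT L x f → f * (s * t₁) = s * t₁ * f → m⁻¹ * f * m ∈ normalizer (L : Set G) := by
    intro f hfT hfc
    have := H.e6 (m := m⁻¹) hs ht₁ hfT hfc hmi
    rwa [inv_inv] at this
  have hnK : ∀ f, IsT L x f → m⁻¹ * f * m ∉ centralizer (L : Set G) :=
    fun f hfT h1 => hmM (h0.fixT hfT h1)
  have sqc : ∀ f, IsT L x f → m⁻¹ * f * m * (m⁻¹ * f * m) = 1 := by
    intro f hfT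
    calc m⁻¹ * f * m * (m⁻¹ * f * m) = m⁻¹ * (f * f) * m := by group
      _ = 1 := by rw [hfT.sq]; group
  have hss : (⟨s, hs.mem⟩ : L) * ⟨s, hs.mem⟩ = 1 := Subtype.ext hs.sq
  -- the action commutes with `s`
  have hcs : ∀ f, IsT L x f → f * (s * t₁) = s * t₁ * f → ∀ c, Acts L (m⁻¹ * f * m) c →
      c ⟨s, hs.mem⟩ = ⟨s, hs.mem⟩ := by
    intro f hfT hfc c hc
    rw [hc.fix_iff]
    obtain ⟨e, he⟩ : ∃ e, e = m⁻¹ * f * m := ⟨_, rfl⟩
    have heM : e ∈ normalizer (L : Set G) := he ▸ hM f hfT hfc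
    change m⁻¹ * f * m * s = s * (m⁻¹ * f * m)
    rw [← he]
    have h1 : e * (s * t₁) * e⁻¹ = s * t₁ := by
      have h2 : e * (s * t₁) = s * t₁ * e := by
        rw [he]
        calc m⁻¹ * f * m * (s * t₁) = m⁻¹ * f * (m * (s * t₁)) := by group
          _ = m⁻¹ * (f * (s * t₁)) * m := by rw [hm]; group
          _ = (m⁻¹ * (s * t₁)) * f * m := by rw [hfc]; group
          _ = s * t₁ * (m⁻¹ * f * m) := by rw [hmi]; group
      rw [h2]; group
    have h2 : e * s * e⁻¹ * s⁻¹ = s * (t₁ * (e * t₁ * e⁻¹)⁻¹) * s⁻¹ := by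
      have h3 : (e * s * e⁻¹) * (e * t₁ * e⁻¹) = s * t₁ := by
        rw [← h1]; group
      calc e * s * e⁻¹ * s⁻¹ = (e * s * e⁻¹) * (e * t₁ * e⁻¹) * (e * t₁ * e⁻¹)⁻¹ * s⁻¹ := by group
        _ = s * t₁ * (e * t₁ * e⁻¹)⁻¹ * s⁻¹ := by rw [h3]
        _ = _ := by group
    have h3 : e * s * e⁻¹ * s⁻¹ = 1 := h0.disj (mul_mem (L_conj heM hs.mem) (inv_mem hs.mem)) (by
      rw [h2]
      exact K_conj (L_le_M hs.mem) (mul_mem ht₁.mem (inv_mem (K_conj heM ht₁.mem))))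
    calc e * s = (e * s * e⁻¹ * s⁻¹) * (s * e) := by group
      _ = s * e := by rw [h3, one_mul]
  -- inner elements
  have hinn : ∀ w i, IsT L x w → w * (s * t₁) = s * t₁ * w → Acts L (m⁻¹ * w * m) (MulAut.conj i) →
      i * i = 1 ∧ i ≠ 1 ∧ i * ⟨s, hs.mem⟩ = ⟨s, hs.mem⟩ * i ∧ i ≠ ⟨s, hs.mem⟩ := by
    intro w i hwT hwc hw
    refine ⟨F.sq_of_conj (hw.sq (sqc w hwT)), ?_, ?_, ?_⟩
    · rintro rfl
      rw [map_one] at hw
      exact hnK w hwT (acts_one_iff.mp hw)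
    · have h1 := hcs w hwT hwc _ hw
      rw [MulAut.conj_apply] at h1
      exact mul_inv_eq_iff_eq_mul.mp h1
    · rintro rfl
      apply H.e8a hs ht₁ hm hmM hwT hwc
      have h1 := hw.mul (acts_coe ⟨s, hs.mem⟩)
      rw [← map_mul, hss, map_one] at h1
      exact acts_one_iff.mp h1
  obtain ⟨a, ha⟩ := exists_acts (hM v hvT hvc)
  have haa := ha.sq (sqc v hvT)
  rcases tri X haa with ⟨i, hi⟩ | ⟨l, hl⟩ | hw
  · rw [hi] at ha
    exact ⟨i, ha, hinn v i hvT hvc ha⟩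
  · exfalso
    obtain ⟨u, hu, huc, hvu, hvuT, hvuc⟩ := H.exists_snd hs ht₁ hvT hvc
    obtain ⟨b, hb⟩ := exists_acts (hM u hu huc)
    have hab : Acts L (m⁻¹ * (v * u) * m) (a * b) := by
      have h2 := ha.mul hb
      have h3 : m⁻¹ * v * m * (m⁻¹ * u * m) = m⁻¹ * (v * u) * m := by group
      rwa [h3] at h2
    have hcab : a * b = b * a := ha.comm hb (by
      calc m⁻¹ * v * m * (m⁻¹ * u * m) = m⁻¹ * (v * u) * m := by group
        _ = m⁻¹ * (u * v) * m := by rw [hvu]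
        _ = _ := by group)
    -- an inner element commuting with `a`
    have hex : ∃ (w : G) (i : L), IsT L x w ∧ w * (s * t₁) = s * t₁ * w ∧
        Acts L (m⁻¹ * w * m) (MulAut.conj i) ∧ a * MulAut.conj i = MulAut.conj i * a := by
      rcases tri X (hb.sq (sqc u hu)) with ⟨i, hi⟩ | ⟨l', hl'⟩ | hwb
      · rw [hi] at hb hcab
        exact ⟨u, i, hu, huc, hb, hcab⟩
      · have h4 : a * b = MulAut.conj (X l * l') := by
          rw [map_mul, ← conj_conj, F.xinv, hl, hl']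
          group
        rw [h4] at hab
        refine ⟨v * u, _, hvuT, hvuc, hab, ?_⟩
        rw [← h4]
        calc a * (a * b) = a * (b * a) := by rw [hcab]
          _ = a * b * a := by group
      · exact absurd hwb (H.e8w F hs ht₁ hm hmM hu huc hb)
    obtain ⟨w, i, hwT, hwc, hwi, hai⟩ := hex
    obtain ⟨hii, hi1, his, hins⟩ := hinn w i hwT hwc hwi
    have hai' := (F.comm_conj_iff a i).mp hai
    have has := hcs v hvT hvc a ha
    rw [hl] at haa
    obtain ⟨k, hk⟩ := F.xconj l haa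
    rw [← hl] at hk
    have htr : ∀ z : L, a z = z → X (k * z * k⁻¹) = k * z * k⁻¹ := by
      intro z hz
      have h5 : X (k * z * k⁻¹) = k * (a z) * k⁻¹ := by
        rw [← hk, MulAut.mul_apply, MulAut.mul_apply, MulAut.conj_apply, ← map_inv, MulAut.conj_apply]
        congr 3
        group
      rw [h5, hz]
    have h6 := F.comm (k * i * k⁻¹) (k * ⟨s, hs.mem⟩ * k⁻¹)
      (by calc k * i * k⁻¹ * (k * i * k⁻¹) = k * (i * i) * k⁻¹ := by group
            _ = 1 := by rw [hii]; group)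
      (by calc k * ⟨s, hs.mem⟩ * k⁻¹ * (k * ⟨s, hs.mem⟩ * k⁻¹) =
                k * ((⟨s, hs.mem⟩ : L) * ⟨s, hs.mem⟩) * k⁻¹ := by group
            _ = 1 := by rw [hss]; group)
      (fun h => hi1 (by
        calc i = k⁻¹ * (k * i * k⁻¹) * k := by group
          _ = 1 := by rw [h]; group))
      (fun h => hs.ne (by
        have h7 : (⟨s, hs.mem⟩ : L) = 1 := by
          calc (⟨s, hs.mem⟩ : L) = k⁻¹ * (k * ⟨s, hs.mem⟩ * k⁻¹) * k := by group
            _ = 1 := by rw [h]; group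
        exact congrArg Subtype.val h7))
      (htr i hai') (htr _ has)
      (by calc k * i * k⁻¹ * (k * ⟨s, hs.mem⟩ * k⁻¹) = k * (i * ⟨s, hs.mem⟩) * k⁻¹ := by group
            _ = k * (⟨s, hs.mem⟩ * i) * k⁻¹ := by rw [his]
            _ = _ := by group)
    exact hins (mul_left_cancel (mul_right_cancel h6))
  · exact absurd hw (H.e8w F hs ht₁ hm hmM hvT hvc ha)

/-- (E8)(c) -/
theorem e8c [Finite G] {s t₁ m : G} (hs : IsS L x s)
    (ht₁ : IsT1 L x t₁) (hm : m * (s * t₁) = s * t₁ * m) (hmM : m ∉ normalizer (L : Set G)) :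
    m * s * m⁻¹ ∉ centralizer (L : Set G) := by
  intro h
  have h0 := H.hyp0
  have h1 : (m * s * m⁻¹) * (m * t₁ * m⁻¹) = s * t₁ := by
    calc (m * s * m⁻¹) * (m * t₁ * m⁻¹) = (m * (s * t₁)) * m⁻¹ := by group
      _ = s * t₁ := by rw [hm]; group
  by_cases ht : t₁ = 1
  · rw [ht, mul_one, mul_inv_cancel, mul_one, mul_one] at h1
    rw [h1] at h
    exact hs.ne (h0.disj hs.mem h)
  · have h2 : m * t₁ * m⁻¹ * s ∈ centralizer (L : Set G) := by
      have h3 : m * t₁ * m⁻¹ * s = (m * s * m⁻¹)⁻¹ * (s * t₁ * s) := by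
        rw [← h1]; group
      have h4 : s * t₁ * s = t₁ := by
        calc s * t₁ * s = t₁ * (s * s) := by rw [comm_of_mem hs.mem ht₁.mem]; group
          _ = t₁ := by rw [hs.sq, mul_one]
      rw [h3, h4]
      exact mul_mem (inv_mem h) ht₁.mem
    refine H.e8a (m := m⁻¹) hs ht₁ (inv_comm hm) (fun h3 => hmM ?_) (ht₁.isT ht)
      ((comm_t hs ht₁.mem).mpr rfl) (by rw [inv_inv]; exact h2)
    have := inv_mem h3
    rwa [inv_inv] at this

/-- (E8)(c'): the elements act as involutions outside the centre of `C_L(s)` -/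
theorem e8c' [Finite G] {X : MulAut L} (F : Facts X) {s t₁ m v : G} (hs : IsS L x s)
    (ht₁ : IsT1 L x t₁) (hm : m * (s * t₁) = s * t₁ * m) (hmM : m ∉ normalizer (L : Set G))
    (hvT : IsT L x v) (hvc : v * (s * t₁) = s * t₁ * v) {i : L}
    (hi : Acts L (m⁻¹ * v * m) (MulAut.conj i)) :
    ∃ p : L, p * ⟨s, hs.mem⟩ = ⟨s, hs.mem⟩ * p ∧ p * i ≠ i * p := by
  by_contra hcon
  push Not at hcon
  obtain ⟨s', hs'⟩ : ∃ s' : L, s' = ⟨s, hs.mem⟩ := ⟨_, rfl⟩
  have hs'G : (s' : G) = s := by rw [hs']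
  obtain ⟨i', hi', hii, hi1, his, hins⟩ := H.e8b F hs ht₁ hm hmM hvT hvc
  have e1 : i' = i := F.conj_inj (hi'.uniq hi)
  rw [e1] at hii hi1 his hins
  obtain ⟨u, hu, huc, hvu, hvuT, hvuc⟩ := H.exists_snd hs ht₁ hvT hvc
  obtain ⟨j, hj, hjj, hj1, hjs, hjns⟩ := H.e8b F hs ht₁ hm hmM hu huc
  obtain ⟨k, hk, hkk, hk1, hks, hkns⟩ := H.e8b F hs ht₁ hm hmM hvuT hvuc
  rw [← hs'] at hcon his hins hjs hjns hks hkns
  have hij : Acts L (m⁻¹ * (v * u) * m) (MulAut.conj (i * j)) := by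
    have h2 := hi.mul hj
    have h3 : m⁻¹ * v * m * (m⁻¹ * u * m) = m⁻¹ * (v * u) * m := by group
    rw [h3, ← map_mul] at h2
    exact h2
  have hkij : k = i * j := F.conj_inj (hk.uniq hij)
  have hji : j * i = i * j := by
    rw [← F.conj_comm_iff]
    exact hj.comm hi (by
      calc m⁻¹ * u * m * (m⁻¹ * v * m) = m⁻¹ * (u * v) * m := by group
        _ = m⁻¹ * (v * u) * m := by rw [hvu]
        _ = _ := by group)
  have hss : s' * s' = 1 := Subtype.ext (by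
    change (s' : G) * s' = 1
    rw [hs'G]; exact hs.sq)
  have hs1 : s' ≠ 1 := fun h => hs.ne (by rw [← hs'G, h]; rfl)
  obtain ⟨n, p, hn, hp, hnp⟩ := F.p3 s' i j hss hs1 hii hi1 hjj hj1 hcon hins hjs hji
    (fun h => by
      rw [h, hii] at hkij
      exact hk1 hkij)
    hjns
    (fun h => by
      apply hkns
      rw [hkij, h, ← mul_assoc, hii, one_mul])
  obtain ⟨v', hv'⟩ : ∃ v', v' = m⁻¹ * v * m := ⟨_, rfl⟩
  -- `m n m⁻¹`, `m p m⁻¹ ∈ M`
  have hnM : m * (n : G) * m⁻¹ ∈ normalizer (L : Set G) := by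
    apply H.Ct u hu
    apply comm_of_fix hj
    rw [MulAut.conj_apply, ← hn, mul_inv_cancel_right]
  have hpM : m * (p : G) * m⁻¹ ∈ normalizer (L : Set G) := by
    apply H.Ct v hvT
    apply comm_of_fix hi
    rw [MulAut.conj_apply, ← hp, mul_inv_cancel_right]
  have hc : m * ((n * i * n⁻¹ * i⁻¹ : L) : G) * m⁻¹ ∈ centralizer (L : Set G) := by
    have h1 : ((n * i * n⁻¹ * i⁻¹ : L) : G) = (n : G) * (m⁻¹ * v * m) * (n : G)⁻¹ * (m⁻¹ * v * m)⁻¹ := by
      have h2 := hi n⁻¹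
      rw [MulAut.conj_apply] at h2
      have h3 : ((i * n⁻¹ * i⁻¹ : L) : G) = m⁻¹ * v * m * (n : G)⁻¹ * (m⁻¹ * v * m)⁻¹ := h2
      calc ((n * i * n⁻¹ * i⁻¹ : L) : G) = (n : G) * ((i * n⁻¹ * i⁻¹ : L) : G) := by
            change (n : G) * (i : G) * (n : G)⁻¹ * (i : G)⁻¹ = (n : G) * ((i : G) * (n : G)⁻¹ * (i : G)⁻¹)
            group
        _ = _ := by rw [h3]; group
    rw [h1]
    have h2 : m * ((n : G) * (m⁻¹ * v * m) * (n : G)⁻¹ * (m⁻¹ * v * m)⁻¹) * m⁻¹ =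
        ((m * (n : G) * m⁻¹) * v * (m * (n : G) * m⁻¹)⁻¹) * v⁻¹ := by group
    rw [h2]
    exact mul_mem (K_conj hnM hvT.mem) (inv_mem hvT.mem)
  apply H.e8c hs ht₁ hm hmM
  obtain ⟨c, hcd⟩ : ∃ c : L, c = n * i * n⁻¹ * i⁻¹ := ⟨_, rfl⟩
  rw [← hcd] at hnp hc
  have h1 : s = (p : G) * (c : G) * (p : G)⁻¹ * (c : G)⁻¹ := by
    rw [← hs'G]
    exact congrArg Subtype.val hnp
  have h2 : m * s * m⁻¹ = ((m * (p : G) * m⁻¹) * (m * (c : G) * m⁻¹) * (m * (p : G) * m⁻¹)⁻¹) *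
      (m * (c : G) * m⁻¹)⁻¹ := by
    rw [h1]; group
  rw [h2]
  exact mul_mem (K_conj hpM hc) (inv_mem hc)

end Out

end Cfsg.Agent.UGT.ThEL34
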