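import Cfsg.Agent.UGT.ThEL34.Acts
import Cfsg.Agent.UGT.ThEL34.Facts2

/-!
# Theorem E for `L₃(4)`, III: `x ^ g ∈ M → g ∈ M`
-/

set_option autoImplicit false

open Subgroup

namespace Cfsg.Agent.UGT.ThEL34

open Cfsg.Agent.UGT.ThE.Base (comm_of_mem L_conj L_conj' K_le_M L_le_M K_conj K_conj' IsT IsS IsT1 exists_central
  exists_sqrt)


theorem card_mod_two {α : Type*} [Finite α] (f : α → α) (hf : ∀ a, f (f a) = a) :
    Nat.card α % 2 = Nat.card (Function.fixedPoints f) % 2 := by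
  classical
  cases nonempty_fintype α
  have hp : Fact (Nat.Prime 2) := ⟨Nat.prime_two⟩
  have h0 : ∀ g : Function.End α, (∀ a, g (g a) = a) → g ^ 2 ^ 1 = 1 := by
    intro g hg
    rw [pow_one, sq]
    funext a
    exact hg a
  have h1 := Equiv.Perm.card_fixedPoints_modEq (α := α) (f := (f : Function.End α)) (p := 2) (n := 1) (h0 f hf)
  rw [Nat.card_eq_fintype_card, Nat.card_eq_fintype_card]
  exact h1

/-- an involutory permutation of a finite type of even cardinality fixing a point fixes another point -/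
theorem exists_fixed_ne {α : Type*} [Finite α] (f : Equiv.Perm α) (hf : ∀ a, f (f a) = a) (h : 2 ∣ Nat.card α)
    {a : α} (ha : f a = a) : ∃ b, b ≠ a ∧ f b = b := by
  classical
  by_contra hno
  push Not at hno
  have h1 := card_mod_two f hf
  have h2 : Nat.card (Function.fixedPoints f) = 1 := by
    rw [Nat.card_eq_one_iff_unique]
    have key : ∀ b : Function.fixedPoints f, b.1 = a := by
      intro b
      by_contra hb
      exact hno b hb b.2
    exact ⟨⟨fun b c => Subtype.ext ((key b).trans (key c).symm)⟩, ⟨⟨a, ha⟩⟩⟩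
  rw [h2] at h1
  omega

/-- an involutory automorphism fixes an involution of every invariant subgroup of even order -/
theorem exists_fixed_inv {Γ : Type*} [Group Γ] (σ : MulAut Γ) (hσ : σ * σ = 1) (D : Subgroup Γ) [Finite D]
    (hD : ∀ d ∈ D, σ d ∈ D) (h : 2 ∣ Nat.card D) : ∃ d ∈ D, d * d = 1 ∧ d ≠ 1 ∧ σ d = d := by
  classical
  have hσσ : ∀ d, σ (σ d) = d := fun d => by
    rw [← MulAut.mul_apply, hσ, MulAut.one_apply]
  -- the elements with `d² = 1`
  let T := {d : D // d * d = 1}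
  have hT : 2 ∣ Nat.card T := by
    have h1 := card_mod_two (fun d : D => d⁻¹) (fun d => inv_inv d)
    have e : Function.fixedPoints (fun d : D => d⁻¹) ≃ T :=
      Equiv.subtypeEquivRight (fun d => by
        change d⁻¹ = d ↔ d * d = 1
        constructor
        · intro h
          nth_rw 1 [← h]
          exact inv_mul_cancel d
        · intro h
          exact inv_eq_of_mul_eq_one_left h)
    rw [← Nat.card_congr e]
    omega
  have hmap : ∀ t : T, (⟨σ t.1, hD _ t.1.2⟩ : D) * ⟨σ t.1, hD _ t.1.2⟩ = 1 := by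
    rintro ⟨⟨d, hd⟩, hdd⟩
    apply Subtype.ext
    change σ d * σ d = 1
    rw [← map_mul, show d * d = 1 from congrArg Subtype.val hdd, map_one]
  let f : Equiv.Perm T :=
    { toFun := fun t => ⟨⟨σ t.1, hD _ t.1.2⟩, hmap t⟩
      invFun := fun t => ⟨⟨σ t.1, hD _ t.1.2⟩, hmap t⟩
      left_inv := fun t => Subtype.ext (Subtype.ext (hσσ _))
      right_inv := fun t => Subtype.ext (Subtype.ext (hσσ _)) }
  obtain ⟨⟨⟨d, hd⟩, hdd⟩, hne, hfix⟩ := exists_fixed_ne f (fun t => Subtype.ext (Subtype.ext (hσσ _))) hT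
    (a := ⟨1, one_mul 1⟩) (Subtype.ext (Subtype.ext (map_one σ)))
  refine ⟨d, hd, congrArg Subtype.val hdd, ?_, congrArg (fun t : T => ((t.1 : D) : Γ)) hfix⟩
  rintro rfl
  exact hne rfl


variable {G : Type*} [Group G]

/-- The hypotheses of Theorem E, `L = L₃(4)`. -/
structure Hyp (L : Subgroup G) (x : G) : Prop where
  xx : x * x = 1
  facts2 : ∃ X : MulAut L, Acts L x X ∧ Facts2 X
  nc : ∀ g : G, ¬ ∀ l ∈ L, g * l * g⁻¹ ∈ centralizer (L : Set G)
  Cx : ∀ c, c * x = x * c → c ∈ normalizer (L : Set G)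
  Ct : ∀ t, IsT L x t → ∀ c, c * t = t * c → c ∈ normalizer (L : Set G)
  Cxt : ∀ t, IsT L x t → ∀ c, c * (x * t) = (x * t) * c → c ∈ normalizer (L : Set G)
  four : ∃ t, IsT L x t
  rk : ∀ t, IsT L x t → ∃ u, IsT L x u ∧ u ≠ t ∧ u * t = t * u

namespace Hyp

variable {L : Subgroup G} {x : G} (H : Hyp L x)
include H

theorem facts : ∃ X : MulAut L, Acts L x X ∧ Facts X := by
  obtain ⟨X, hX, F⟩ := H.facts2
  exact ⟨X, hX, F.toFacts⟩

theorem hyp0 : Hyp0 L x := by
  obtain ⟨X, hX, F⟩ := H.facts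
  refine ⟨H.xx, hX.mem, ?_, ?_, H.nc, H.Cx, H.Ct, H.Cxt, H.four, H.rk, ?_⟩
  · intro l hl h
    have h1 := hX.mul (acts_of_mem hl)
    have h2 := (Acts.eq_one_iff h1).mpr h
    apply F.xne (⟨l, hl⟩⁻¹ : L)
    rw [map_inv]
    exact eq_inv_of_mul_eq_one_left h2
  · intro N hN hNn
    have hn : (N.subgroupOf L).Normal := ⟨fun n hn l => by
      rw [mem_subgroupOf] at hn ⊢
      exact hNn l l.2 n hn⟩
    have := F.simp
    rcases F.simp.eq_bot_or_eq_top_of_normal _ hn with h | h
    · left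
      rw [eq_bot_iff]
      intro n hn
      have h1 : (⟨n, hN hn⟩ : L) ∈ N.subgroupOf L := mem_subgroupOf.mpr hn
      rw [h, mem_bot] at h1
      exact mem_bot.mpr (congrArg Subtype.val h1)
    · right
      apply le_antisymm hN
      exact subgroupOf_eq_top.mp h
  · intro g hg l hl
    obtain ⟨ψ, hψ⟩ := exists_hom (L := L) (J := ⊤) (g := g) (fun j _ => hg j j.2)
    obtain ⟨l', hl'⟩ := F.inn (ψ.comp (topEquiv (G := L)).symm.toMonoidHom) ⟨l, hl⟩
    have h1 := hψ ((topEquiv (G := L)).symm ⟨l, hl⟩)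
    have h2 : ψ ((topEquiv (G := L)).symm ⟨l, hl⟩) = MulAut.conj l' := hl'
    rw [h2] at h1
    refine ⟨(l'⁻¹ : L), (l'⁻¹ : L).2, ?_⟩
    have h3 := h1.mul (acts_coe (l'⁻¹ : L))
    rw [← map_mul, mul_inv_cancel, map_one] at h3
    exact acts_one_iff.mp h3

theorem xi : x⁻¹ = x := inv_eq_of_mul_eq_one_left H.xx

/-- no conjugate of `x` lies in `K` -/
theorem bad_of [Finite G] {e : G} (heM : e ∈ normalizer (L : Set G)) (he : e ∉ centralizer (L : Set G))
    (hC : ∀ c, c * e = e * c → c ∈ normalizer (L : Set G)) (g : G) :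
    g⁻¹ * e * g ∉ centralizer (L : Set G) := by
  intro h
  refine he (H.hyp0.z4 (g := g) (fun l hl => hC _ ?_) heM h)
  have h1 := comm_of_mem hl h
  calc g * l * g⁻¹ * e = g * (l * (g⁻¹ * e * g)) * g⁻¹ := by group
    _ = g * ((g⁻¹ * e * g) * l) * g⁻¹ := by rw [h1]
    _ = e * (g * l * g⁻¹) := by group

theorem xK : x ∉ centralizer (L : Set G) := by
  obtain ⟨X, hX, F⟩ := H.facts
  intro h
  exact F.xne 1 (by rw [(hX.eq_one_iff).mpr h, map_one])

theorem badT [Finite G] (g : G) : ¬ IsT L x (g⁻¹ * x * g) := fun h =>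
  H.bad_of H.hyp0.xM H.xK H.Cx g h.mem

theorem badTt [Finite G] (t : G) (ht : IsT L x t) (g : G) : ¬ IsT L x (g⁻¹ * (x * t) * g) := fun h => by
  refine H.bad_of (mul_mem H.hyp0.xM (K_le_M ht.mem)) (fun h1 => H.xK ?_) (H.Cxt t ht) g h.mem
  have h2 := mul_mem h1 (inv_mem ht.mem)
  rwa [mul_inv_cancel_right] at h2

/-- `x s` is conjugate to `x` under `L` -/
theorem conjS {s : G} (hs : IsS L x s) : ∃ l ∈ L, l * (x * s) * l⁻¹ = x := by
  obtain ⟨X, hX, F⟩ := H.facts
  have h0 := H.hyp0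
  have h1 := hX.mul (acts_of_mem hs.mem)
  have h2 : x * s * (x * s) = 1 := by
    calc x * s * (x * s) = x * (s * x) * s := by group
      _ = (x * x) * (s * s) := by rw [hs.comm]; group
      _ = 1 := by rw [H.xx, hs.sq, one_mul]
  obtain ⟨m, hm⟩ := F.xconj _ (h1.sq h2)
  refine ⟨m, m.2, ?_⟩
  have h3 := ((acts_coe m).mul h1).mul (acts_coe m).inv
  rw [hm] at h3
  have h4 := h3.mul_inv_mem hX
  have h5 : (m : G) * (x * s) * (m : G)⁻¹ * x⁻¹ = (m : G) * (x * (s * (m : G)⁻¹) * x⁻¹) := by group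
  have h6 := h0.disj (l := (m : G) * (x * s) * (m : G)⁻¹ * x⁻¹) (by
    rw [h5]
    exact mul_mem m.2 (L_conj h0.xM (mul_mem hs.mem (inv_mem m.2)))) h4
  exact mul_inv_eq_one.mp h6

/-- the involutions commuting with `x` acting not wildly -/
theorem cls {X : MulAut L} (hX : Acts L x X) (F : Facts X) {e : G} (he : e * x = x * e) (hee : e * e = 1)
    (h1 : e ≠ 1) {b : MulAut L} (hb : Acts L e b) (hw : ¬ Wild X b) :
    IsT L x e ∨ (∃ t, IsT1 L x t ∧ e = x * t) ∨
      (∃ s, IsS L x s ∧ ∃ t, IsT1 L x t ∧ e = s * t) ∨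
        ∃ s, IsS L x s ∧ ∃ t, IsT1 L x t ∧ e = x * s * t := by
  obtain ⟨s, hss, hxs, hs⟩ := (F.cls (hb.sq hee) (hb.comm hX he)).resolve_right hw
  have hxs' : x * (s : G) = s * x := (hX.fix_iff s).mp hxs
  have hsi : (s : G)⁻¹ = s := inv_eq_of_mul_eq_one_left (congrArg Subtype.val hss)
  have hss' : (s : G) * s = 1 := congrArg Subtype.val hss
  by_cases hs1 : s = 1
  · rw [hs1, map_one, mul_one] at hs
    rcases hs with hs | hs
    · exact Or.inl ⟨(hb.eq_one_iff).mp hs, he, hee, h1⟩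
    · right; left
      refine ⟨x * e, ⟨?_, ?_, ?_⟩, ?_⟩
      · rw [hs] at hb
        have := hX.inv_mul_mem hb
        rwa [H.xi] at this
      · calc x * e * x = x * (e * x) := by group
          _ = x * (x * e) := by rw [he]
      · calc x * e * (x * e) = x * (e * x) * e := by group
          _ = (x * x) * (e * e) := by rw [he]; group
          _ = 1 := by rw [H.xx, hee, one_mul]
      · rw [← mul_assoc, H.xx, one_mul]
  · have hS : IsS L x s := ⟨s.2, hxs'.symm, hss', fun h => hs1 (Subtype.ext h)⟩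
    rcases hs with hs | hs
    · right; right; left
      rw [hs] at hb
      have h2 : e * (s : G) = s * e := (hb.fix_iff s).mp (by
        rw [MulAut.conj_apply, mul_inv_cancel_right])
      refine ⟨s, hS, s * e, ⟨?_, ?_, ?_⟩, ?_⟩
      · have := (acts_coe s).inv_mul_mem hb
        rwa [hsi] at this
      · calc (s : G) * e * x = s * (e * x) := by group
          _ = (s * x) * e := by rw [he]; group
          _ = x * (s * e) := by rw [← hxs']; group
      · calc (s : G) * e * (s * e) = s * (e * s) * e := by group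
          _ = (s * s) * (e * e) := by rw [h2]; group
          _ = 1 := by rw [hss', hee, one_mul]
      · rw [← mul_assoc, hss', one_mul]
    · right; right; right
      rw [hs] at hb
      have hXs := (F.comm_conj_iff X s).mpr hxs
      have h2 : e * (s : G) = s * e := (hb.fix_iff s).mp (by
        rw [MulAut.mul_apply, MulAut.conj_apply, mul_inv_cancel_right, hxs])
      refine ⟨s, hS, s * x * e, ⟨?_, ?_, ?_⟩, ?_⟩
      · have h3 := (hX.mul (acts_coe s)).inv_mul_mem hb
        rwa [mul_inv_rev, hsi, H.xi] at h3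
      · calc (s : G) * x * e * x = s * x * (e * x) := by group
          _ = s * (x * x) * e := by rw [he]; group
          _ = (s : G) * e := by rw [H.xx, mul_one]
          _ = (x * x) * (s * e) := by rw [H.xx, one_mul]
          _ = x * (x * s) * e := by group
          _ = x * (s * x * e) := by rw [hxs']; group
      · calc (s : G) * x * e * (s * x * e) = s * x * (e * s) * x * e := by group
          _ = s * (x * s) * (e * x) * e := by rw [h2]; group
          _ = (s * s) * (x * x) * (e * e) := by rw [hxs', he]; group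
          _ = 1 := by rw [hss', H.xx, hee]; group
      · calc e = (x * x) * (s * s) * e := by rw [H.xx, hss']; group
          _ = x * (x * s) * s * e := by group
          _ = x * (s * x) * (s * e) := by rw [hxs']; group
          _ = x * s * (x * s) * e := by group
          _ = x * s * (s * x * e) := by rw [hxs']; group

theorem Cxt1 {t : G} (ht : IsT1 L x t) {c : G} (hc : c * (x * t) = (x * t) * c) :
    c ∈ normalizer (L : Set G) := by
  by_cases h : t = 1
  · rw [h, mul_one] at hc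
    exact H.Cx c hc
  · exact H.Cxt t (ht.isT h) c hc

theorem badT1 [Finite G] {t : G} (ht : IsT1 L x t) (g : G) : ¬ IsT L x (g⁻¹ * (x * t) * g) := by
  by_cases h : t = 1
  · rw [h, mul_one]
    exact H.badT g
  · exact H.badTt t (ht.isT h) g

theorem conjST {s t : G} (hs : IsS L x s) (ht : IsT1 L x t) :
    ∃ l ∈ L, l * (x * s * t) * l⁻¹ = x * t := by
  obtain ⟨l, hl, h⟩ := H.conjS hs
  refine ⟨l, hl, ?_⟩
  have h1 := comm_of_mem (inv_mem hl) ht.mem
  calc l * (x * s * t) * l⁻¹ = l * (x * s) * (t * l⁻¹) := by group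
    _ = l * (x * s) * l⁻¹ * t := by rw [← h1]; group
    _ = x * t := by rw [h]

theorem Cxst {s t : G} (hs : IsS L x s) (ht : IsT1 L x t) {c : G}
    (hc : c * (x * s * t) = (x * s * t) * c) : c ∈ normalizer (L : Set G) := by
  obtain ⟨l, hl, h⟩ := H.conjST hs ht
  have h1 : (l * c * l⁻¹) * (x * t) = (x * t) * (l * c * l⁻¹) := by
    rw [← h]
    calc (l * c * l⁻¹) * (l * (x * s * t) * l⁻¹) = l * (c * (x * s * t)) * l⁻¹ := by group
      _ = l * ((x * s * t) * c) * l⁻¹ := by rw [hc]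
      _ = _ := by group
  have h2 := H.Cxt1 ht h1
  have h3 : c = l⁻¹ * (l * c * l⁻¹) * l := by group
  rw [h3]
  exact mul_mem (mul_mem (inv_mem (L_le_M hl)) h2) (L_le_M hl)

theorem not_xs {s : G} (hs : s ∈ L) {t : G} (ht : t ∈ centralizer (L : Set G)) :
    x * s * t ∉ centralizer (L : Set G) := fun h => H.hyp0.xLK s hs (by
  have : x * s = x * s * t * t⁻¹ := by group
  rw [this]
  exact mul_mem h (inv_mem ht))

/-- pairs of commuting `t`'s commuting with `s t₁` -/
theorem exists_pair {s t₁ : G} (hs : IsS L x s) (ht₁ : IsT1 L x t₁) :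
    ∃ f₁ f₂, IsT L x f₁ ∧ IsT L x f₂ ∧ IsT L x (f₁ * f₂) ∧ f₁ * f₂ = f₂ * f₁ ∧
      f₁ * (s * t₁) = s * t₁ * f₁ ∧ f₂ * (s * t₁) = s * t₁ * f₂ := by
  have key : ∀ f, IsT L x f → f * t₁ = t₁ * f → f * (s * t₁) = s * t₁ * f := by
    intro f hf h
    have h1 := comm_of_mem hs.mem hf.mem
    calc f * (s * t₁) = (f * s) * t₁ := by group
      _ = s * (f * t₁) := by rw [← h1]; group
      _ = s * t₁ * f := by rw [h]; group
  have hmul : ∀ f₁ f₂, IsT L x f₁ → IsT L x f₂ → f₂ ≠ f₁ → f₂ * f₁ = f₁ * f₂ → IsT L x (f₁ * f₂) := by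
    intro f₁ f₂ h1 h2 hne h
    refine (h1.isT1.mul h2.isT1 h.symm).isT ?_
    intro h3
    apply hne
    have h4 := eq_inv_of_mul_eq_one_right h3
    rw [h4]
    exact inv_eq_of_mul_eq_one_left h1.sq
  by_cases h : t₁ = 1
  · obtain ⟨t, ht⟩ := H.four
    obtain ⟨u, hu, hut, hc⟩ := H.rk t ht
    exact ⟨t, u, ht, hu, hmul t u ht hu hut hc, hc.symm, key t ht (by rw [h]; group),
      key u hu (by rw [h]; group)⟩
  · have ht := ht₁.isT h
    obtain ⟨u, hu, hut, hc⟩ := H.rk t₁ ht
    exact ⟨t₁, u, ht, hu, hmul t₁ u ht hu hut hc, hc.symm, key t₁ ht rfl, key u hu hc⟩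

omit H in
/-- `g L g⁻¹ ≤ M` if `g` maps the fixed points of a wild automorphism and the centralizer of an involution fixed
by it into `M` -/
theorem gen_le {X : MulAut L} (F : Facts X) {α : MulAut L} (hα : Wild X α) {i : L} (hii : i * i = 1)
    (hi1 : i ≠ 1) (hαi : α i = i) {g : G} (h1 : ∀ j : L, α j = j → g * (j : G) * g⁻¹ ∈ normalizer (L : Set G))
    (h2 : ∀ j : L, j * i = i * j → g * (j : G) * g⁻¹ ∈ normalizer (L : Set G)) :
    ∀ l ∈ L, g * l * g⁻¹ ∈ normalizer (L : Set G) := by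
  obtain ⟨S, hS⟩ : ∃ S : Subgroup L, ∀ l : L, l ∈ S ↔ g * (l : G) * g⁻¹ ∈ normalizer (L : Set G) :=
    ⟨(normalizer (L : Set G)).comap ((MulAut.conj g).toMonoidHom.comp L.subtype), fun l => Iff.rfl⟩
  have h3 : (⊤ : Subgroup L) ≤ S := by
    rw [← F.wgen α hα i hii hi1 hαi]
    refine sup_le (fun j hj => (hS j).mpr (h1 j hj)) (fun j hj => (hS j).mpr (h2 j ?_))
    exact mem_centralizer_singleton_iff.mp hj
  intro l hl
  exact (hS ⟨l, hl⟩).mp (h3 (mem_top _))

end Hyp

end Cfsg.Agent.UGT.ThEL34
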