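import Cfsg.Agent.UGT.ThEL34.FixA

/-!
# Theorem E for `L₃(4)`, IV: `x ^ g ∈ M → g ∈ M`, the end
-/

set_option autoImplicit false

open Subgroup

namespace Cfsg.Agent.UGT.ThEL34

open Cfsg.Agent.UGT.ThE.Base (comm_of_mem L_conj L_conj' K_le_M L_le_M K_conj K_conj' IsT IsS IsT1 exists_central
  exists_sqrt)

variable {G : Type*} [Group G]

namespace Hyp

variable {L : Subgroup G} {x : G} (H : Hyp L x)
include H

/-- a subgroup `g C_L(α) g⁻¹ ≤ M` (`α` wild) commuting with an element of `M` with solvable centralizer in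
`Aut L` lies in `K`; if `x` normalizes it, `g L g⁻¹ ≤ M` -/
theorem le_of_wild [Finite G] {X : MulAut L} (F : Facts X) {g : G} {α : MulAut L}
    (hα : Wild X α) (h1 : ∀ j : L, α j = j → g * (j : G) * g⁻¹ ∈ normalizer (L : Set G))
    {w : G} {β : MulAut L} (hβ : Acts L w β) (hS : Group.IsSolvable (centralizer ({β} : Set (MulAut L))))
    (h2 : ∀ j : L, α j = j → g * (j : G) * g⁻¹ * w = w * (g * (j : G) * g⁻¹))
    {y : G} (hy : y = g⁻¹ * x * g) {Y : MulAut L} (hY : Acts L y Y) (hYα : Y * α = α * Y) : False := by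
  have h0 := H.hyp0
  obtain ⟨ψ, hψ⟩ := exists_hom (L := L) (J := fx α) (g := g) (fun j hj => h1 j hj)
  have h3 : ∀ j : fx α, ψ j ∈ centralizer ({β} : Set (MulAut L)) := fun j => by
    rw [mem_centralizer_singleton_iff]
    exact (hψ j).comm hβ (h2 j j.2)
  have h4 : ∀ j : L, α j = j → g * (j : G) * g⁻¹ ∈ centralizer (L : Set G) := by
    intro j hj
    have h5 := F.hom_trivial hα hS ψ h3 ⟨j, hj⟩
    have h6 := hψ ⟨j, hj⟩
    rw [h5] at h6
    exact acts_one_iff.mp h6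
  have hyy : y * y = 1 := by
    rw [hy]
    calc g⁻¹ * x * g * (g⁻¹ * x * g) = g⁻¹ * (x * x) * g := by group
      _ = 1 := by rw [H.xx]; group
  obtain ⟨i, hi, hii, hi1, hYi⟩ := exists_fixed_inv Y (hY.sq hyy) (fx α) (fun d hd => by
    change α (Y d) = Y d
    rw [← MulAut.mul_apply, ← hYα, MulAut.mul_apply, show α d = d from hd]) (F.weven α hα)
  have hyi : y * (i : G) = i * y := (hY.fix_iff i).mp hYi
  have hii' : (i : G) * i = 1 := congrArg Subtype.val hii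
  have hT : IsT L x (g * (i : G) * g⁻¹) := by
    refine ⟨h4 i hi, ?_, ?_, ?_⟩
    · have e1 : x = g * y * g⁻¹ := by rw [hy]; group
      calc g * (i : G) * g⁻¹ * x = g * (i : G) * g⁻¹ * (g * y * g⁻¹) := by rw [← e1]
        _ = g * (i * y) * g⁻¹ := by group
        _ = g * (y * i) * g⁻¹ := by rw [hyi]
        _ = (g * y * g⁻¹) * (g * (i : G) * g⁻¹) := by group
        _ = x * (g * (i : G) * g⁻¹) := by rw [← e1]
    · calc g * (i : G) * g⁻¹ * (g * (i : G) * g⁻¹) = g * (i * i) * g⁻¹ := by group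
        _ = 1 := by rw [hii']; group
    · intro h
      apply hi1
      apply Subtype.ext
      calc (i : G) = g⁻¹ * (g * (i : G) * g⁻¹) * g := by group
        _ = 1 := by rw [h]; group
  have hL1 := gen_le F hα hii hi1 hi h1 (fun j hj => by
    apply H.Ct _ hT
    have hj' : (j : G) * i = i * j := congrArg Subtype.val hj
    calc g * (j : G) * g⁻¹ * (g * (i : G) * g⁻¹) = g * (j * i) * g⁻¹ := by group
      _ = g * (i * j) * g⁻¹ := by rw [hj']
      _ = _ := by group)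
  exact hi1 (Subtype.ext (h0.z1 hL1 i.2 (h4 i hi)))

/-- (E1), `x` inner on `g L g⁻¹` -/
theorem fix_inner [Finite G] {X : MulAut L} (hX : Acts L x X) (F : Facts X) {g : G} {s₀ : L}
    (hs₀ : s₀ * s₀ = 1) (hs1 : s₀ ≠ 1) (hy : Acts L (g⁻¹ * x * g) (MulAut.conj s₀)) : False := by
  have h0 := H.hyp0
  obtain ⟨y, hyd⟩ : ∃ y, y = g⁻¹ * x * g := ⟨_, rfl⟩
  rw [← hyd] at hy
  have exg : x = g * y * g⁻¹ := by rw [hyd]; group
  have hs₀' : (s₀ : G) * s₀ = 1 := congrArg Subtype.val hs₀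
  obtain ⟨a, b, ha, hb, hab⟩ := F.cmt s₀ hs₀ hs1
  have hcm : ∀ c : L, c * s₀ = s₀ * c → (g * (c : G) * g⁻¹) * x = x * (g * (c : G) * g⁻¹) := by
    intro c hc
    have h1 : y * (c : G) = c * y := (hy.fix_iff c).mp (by
      rw [MulAut.conj_apply, ← hc, mul_inv_cancel_right])
    calc g * (c : G) * g⁻¹ * x = g * (c : G) * g⁻¹ * (g * y * g⁻¹) := by rw [← exg]
      _ = g * (c * y) * g⁻¹ := by group
      _ = g * (y * c) * g⁻¹ := by rw [h1]
      _ = (g * y * g⁻¹) * (g * (c : G) * g⁻¹) := by group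
      _ = x * (g * (c : G) * g⁻¹) := by rw [← exg]
  obtain ⟨s₁, hs₁⟩ : ∃ s₁, s₁ = g * (s₀ : G) * g⁻¹ := ⟨_, rfl⟩
  obtain ⟨α, hα⟩ := exists_acts (H.Cx _ (hcm a ha))
  obtain ⟨β, hβ⟩ := exists_acts (H.Cx _ (hcm b hb))
  have hσ : Acts L s₁ (α * β * α⁻¹ * β⁻¹) := by
    have h1 := ((hα.mul hβ).mul hα.inv).mul hβ.inv
    have h2 : s₁ = g * (a : G) * g⁻¹ * (g * (b : G) * g⁻¹) * (g * (a : G) * g⁻¹)⁻¹ *
        (g * (b : G) * g⁻¹)⁻¹ := by
      rw [hs₁, hab]
      change g * ((a : G) * b * (a : G)⁻¹ * (b : G)⁻¹) * g⁻¹ = _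
      group
    rw [h2]; exact h1
  have hchi : ∀ χ : MulAut L →* ℤˣ, χ (α * β * α⁻¹ * β⁻¹) = 1 := by
    intro χ
    rw [map_mul, map_mul, map_mul, map_inv, map_inv, mul_comm (χ α), mul_assoc (χ β), mul_inv_cancel,
      mul_one, mul_inv_cancel]
  have hs₁s : s₁ * s₁ = 1 := by
    rw [hs₁]
    calc g * (s₀ : G) * g⁻¹ * (g * (s₀ : G) * g⁻¹) = g * (s₀ * s₀) * g⁻¹ := by group
      _ = 1 := by rw [hs₀']; group
  have hs₁1 : s₁ ≠ 1 := by
    intro h
    apply hs1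
    apply Subtype.ext
    calc (s₀ : G) = g⁻¹ * s₁ * g := by rw [hs₁]; group
      _ = 1 := by rw [h]; group
  have hs₁x : s₁ * x = x * s₁ := by rw [hs₁]; exact hcm s₀ rfl
  have hw : ¬ Wild X (α * β * α⁻¹ * β⁻¹) := by
    obtain ⟨χ, -, h⟩ := F.chi1
    intro h1
    have h2 := h _ h1
    rw [hchi] at h2
    exact absurd h2 (by decide)
  obtain ⟨χ, hχ⟩ := F.chi0
  have hlx : ∀ l ∈ L, (g * l * g⁻¹) * (x * s₁) = (x * s₁) * (g * l * g⁻¹) := by
    intro l hl
    have h1 : y * s₀ ∈ centralizer (L : Set G) := by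
      have h2 := hy.mul_inv_mem (acts_coe s₀)
      rwa [inv_eq_of_mul_eq_one_left hs₀'] at h2
    have h2 := comm_of_mem hl h1
    have h3 : x * s₁ = g * (y * s₀) * g⁻¹ := by rw [hs₁, exg]; group
    rw [h3]
    calc g * l * g⁻¹ * (g * (y * s₀) * g⁻¹) = g * (l * (y * s₀)) * g⁻¹ := by group
      _ = g * (y * s₀ * l) * g⁻¹ := by rw [h2]
      _ = _ := by group
  have hnx : ∀ {t : G}, IsT1 L x t → s₁ ≠ x * t := by
    intro t ht h
    have h1 := hX.mulK ht.mem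
    rw [← h] at h1
    have h2 := hchi χ
    rw [hσ.uniq h1, hχ] at h2
    exact absurd h2 (by decide)
  rcases H.cls hX F hs₁x hs₁s hs₁1 hσ hw with h1 | ⟨t₁, ht₁, h1⟩ | ⟨s, hs, t₁, ht₁, h1⟩ | ⟨s, hs, t₁, ht₁, h1⟩
  · have hL1 : ∀ l ∈ L, g * l * g⁻¹ ∈ normalizer (L : Set G) := fun l hl =>
      H.Cxt s₁ h1 _ (hlx l hl)
    exact hs1 (Subtype.ext (h0.z1 hL1 s₀.2 (hs₁ ▸ h1.mem)))
  · exact hnx ht₁ h1
  · have e1 : x * s₁ = x * s * t₁ := by rw [h1]; group
    have hL1 : ∀ l ∈ L, g * l * g⁻¹ ∈ normalizer (L : Set G) := fun l hl =>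
      H.Cxst hs ht₁ (by rw [← e1]; exact hlx l hl)
    have h2 : x * s₁ ∈ centralizer (L : Set G) := by
      apply h0.z4 hL1
      · rw [e1]
        exact mul_mem (mul_mem h0.xM (L_le_M hs.mem)) (K_le_M ht₁.mem)
      · have h3 : g⁻¹ * (x * s₁) * g = y * s₀ := by rw [hs₁, hyd]; group
        rw [h3]
        have h2 := hy.mul_inv_mem (acts_coe s₀)
        rwa [inv_eq_of_mul_eq_one_left hs₀'] at h2
    rw [e1] at h2
    exact H.not_xs hs.mem ht₁.mem h2
  · have h2 := (hX.mul (acts_of_mem hs.mem)).mulK ht₁.mem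
    rw [← h1] at h2
    have h3 := hchi χ
    rw [hσ.uniq h2, map_mul, hχ, F.chi_conj] at h3
    exact absurd h3 (by decide)

/-- (E1)(iii), `v = g t g⁻¹` wild on `L` -/
theorem fix_wild [Finite G] {X : MulAut L} (hX : Acts L x X) (F : Facts X) {g : G}
    (hg : g ∉ normalizer (L : Set G)) (hk : g⁻¹ * x * g * x ∈ centralizer (L : Set G)) {t : G} (ht : IsT L x t)
    (hvx : g * t * g⁻¹ * x = x * (g * t * g⁻¹)) {β : MulAut L} (hβ : Acts L (g * t * g⁻¹) β)
    (hw : Wild X β) : False := by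
  have h0 := H.hyp0
  have F2 : Facts2 X := by
    obtain ⟨X', hX', F2⟩ := H.facts2
    rw [← hX'.uniq hX]
    exact F2
  obtain ⟨y, hyd⟩ : ∃ y, y = g⁻¹ * x * g := ⟨_, rfl⟩
  rw [← hyd] at hk
  have exg : x = g * y * g⁻¹ := by rw [hyd]; group
  have hyX : Acts L y X := by
    have h1 := (hX.inv).Kmul hk
    have h2 : y * x * x⁻¹ = y := by group
    rw [h2, F.xinv] at h1
    exact h1
  obtain ⟨v, hv⟩ : ∃ v, v = g * t * g⁻¹ := ⟨_, rfl⟩
  rw [← hv] at hvx hβ
  have hvt : g⁻¹ * v * g = t := by rw [hv]; group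
  -- elements of `C_L(x)`
  have hR : ∀ r : L, X r = r → (g * (r : G) * g⁻¹) * x = x * (g * (r : G) * g⁻¹) := by
    intro r hr
    have h1 : y * (r : G) = r * y := (hyX.fix_iff r).mp hr
    calc g * (r : G) * g⁻¹ * x = g * (r : G) * g⁻¹ * (g * y * g⁻¹) := by rw [← exg]
      _ = g * (r * y) * g⁻¹ := by group
      _ = g * (y * r) * g⁻¹ := by rw [h1]
      _ = (g * y * g⁻¹) * (g * (r : G) * g⁻¹) := by group
      _ = x * (g * (r : G) * g⁻¹) := by rw [← exg]
  have hRM : ∀ r : L, X r = r → g * (r : G) * g⁻¹ ∈ normalizer (L : Set G) := fun r hr => H.Cx _ (hR r hr)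
  have hRv : ∀ r : L, (g * (r : G) * g⁻¹) * v = v * (g * (r : G) * g⁻¹) := by
    intro r
    have h1 := comm_of_mem r.2 ht.mem
    rw [hv]
    calc g * (r : G) * g⁻¹ * (g * t * g⁻¹) = g * (r * t) * g⁻¹ := by group
      _ = g * (t * r) * g⁻¹ := by rw [h1]
      _ = _ := by group
  -- the fixed points of `β`
  have hJ : ∀ j : L, β j = j → g⁻¹ * (j : G) * g ∈ normalizer (L : Set G) := by
    intro j hj
    apply H.Ct t ht
    have h1 : v * (j : G) = j * v := (hβ.fix_iff j).mp hj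
    calc g⁻¹ * (j : G) * g * t = g⁻¹ * (j * v) * g := by rw [← hvt]; group
      _ = g⁻¹ * (v * j) * g := by rw [h1]
      _ = t * (g⁻¹ * (j : G) * g) := by rw [← hvt]; group
  have hJn : ∀ r : L, X r = r → ∀ j : L, β j = j →
      ∃ j' : L, β j' = j' ∧ (j' : G) = (g * (r : G) * g⁻¹) * j * (g * (r : G) * g⁻¹)⁻¹ := by
    intro r hr j hj
    refine ⟨⟨_, L_conj (hRM r hr) j.2⟩, ?_, rfl⟩
    rw [hβ.fix_iff]
    have h1 : v * (j : G) = j * v := (hβ.fix_iff j).mp hj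
    have h2 := hRv r
    obtain ⟨ρ, hρ⟩ : ∃ ρ, ρ = g * (r : G) * g⁻¹ := ⟨_, rfl⟩
    change v * (g * (r : G) * g⁻¹ * j * (g * (r : G) * g⁻¹)⁻¹) =
      (g * (r : G) * g⁻¹ * j * (g * (r : G) * g⁻¹)⁻¹) * v
    rw [← hρ] at h2 ⊢
    have h3 : ρ⁻¹ * v = v * ρ⁻¹ := by
      calc ρ⁻¹ * v = ρ⁻¹ * (v * ρ) * ρ⁻¹ := by group
        _ = ρ⁻¹ * (ρ * v) * ρ⁻¹ := by rw [h2]
        _ = v * ρ⁻¹ := by group
    calc v * (ρ * j * ρ⁻¹) = (v * ρ) * j * ρ⁻¹ := by group
      _ = ρ * (v * j) * ρ⁻¹ := by rw [← h2]; group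
      _ = ρ * j * (v * ρ⁻¹) := by rw [h1]; group
      _ = ρ * j * ρ⁻¹ * v := by rw [← h3]; group
  -- the normal subgroup of the `j` with `g⁻¹ j g ∈ L`
  let N : Subgroup (fx β) :=
    { carrier := {j | g⁻¹ * ((j : L) : G) * g ∈ L}
      mul_mem' := by
        intro a b ha hb
        change g⁻¹ * (((a * b : fx β) : L) : G) * g ∈ L
        have : g⁻¹ * (((a * b : fx β) : L) : G) * g =
            (g⁻¹ * ((a : L) : G) * g) * (g⁻¹ * ((b : L) : G) * g) := by
          change g⁻¹ * (((a : L) : G) * ((b : L) : G)) * g = _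
          group
        rw [this]
        exact mul_mem ha hb
      one_mem' := by
        change g⁻¹ * (1 : G) * g ∈ L
        rw [mul_one, inv_mul_cancel]; exact one_mem _
      inv_mem' := by
        intro a ha
        change g⁻¹ * (((a : L) : G))⁻¹ * g ∈ L
        have : g⁻¹ * (((a : L) : G))⁻¹ * g = (g⁻¹ * ((a : L) : G) * g)⁻¹ := by group
        rw [this]
        exact inv_mem ha }
  have hNn : N.Normal := by
    refine ⟨fun n hn j => ?_⟩
    change g⁻¹ * (((j * n * j⁻¹ : fx β) : L) : G) * g ∈ L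
    have h1 : g⁻¹ * (((j * n * j⁻¹ : fx β) : L) : G) * g =
        (g⁻¹ * ((j : L) : G) * g) * (g⁻¹ * ((n : L) : G) * g) * (g⁻¹ * ((j : L) : G) * g)⁻¹ := by
      change g⁻¹ * (((j : L) : G) * ((n : L) : G) * ((j : L) : G)⁻¹) * g = _
      group
    rw [h1]
    exact L_conj (hJ j j.2) hn
  have hsimp := F.wsimp β hw
  rcases hsimp.eq_bot_or_eq_top_of_normal N hNn with hN | hN
  · -- `C_L(x)` centralizes `g⁻¹ C_L(v) g`
    have hρ : ∀ r : L, X r = r → ∀ j : L, β j = j → (g * (r : G) * g⁻¹) * j = j * (g * (r : G) * g⁻¹) := by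
      intro r hr j hj
      obtain ⟨j', hj', hj'e⟩ := hJn r hr j hj
      have h1 : (⟨j' * j⁻¹, mul_mem (show j' ∈ fx β from hj') (inv_mem (show j ∈ fx β from hj))⟩ : fx β) ∈ N := by
        change g⁻¹ * ((j' : G) * (j : G)⁻¹) * g ∈ L
        have h2 : g⁻¹ * ((j' : G) * (j : G)⁻¹) * g =
            r * ((g⁻¹ * (j : G) * g) * (r : G)⁻¹ * (g⁻¹ * (j : G) * g)⁻¹) := by
          rw [hj'e]; group
        rw [h2]
        exact mul_mem r.2 (L_conj (hJ j hj) (inv_mem r.2))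
      rw [hN, mem_bot] at h1
      have h2 : (j' : G) * (j : G)⁻¹ = 1 := congrArg (fun z : fx β => ((z : L) : G)) h1
      have h3 : (j' : G) = j := mul_inv_eq_one.mp h2
      rw [hj'e] at h3
      calc (g * (r : G) * g⁻¹) * j = (g * (r : G) * g⁻¹) * j * (g * (r : G) * g⁻¹)⁻¹ * (g * (r : G) * g⁻¹) := by
            group
        _ = j * (g * (r : G) * g⁻¹) := by rw [h3]
    obtain ⟨ψ, hψ⟩ := exists_hom (L := L) (J := fx X) (g := g) (fun r hr => hRM r hr)
    have hin : ∀ (r : fx X) (l : L), ψ r = MulAut.conj l → ψ r = 1 := by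
      intro r l hl
      have h1 : l = 1 := F.wcl β hw l (fun j hj => by
        have h2 := ((hψ r).fix_iff j).mpr (hρ r r.2 j hj)
        rw [hl, MulAut.conj_apply] at h2
        calc l * j = l * j * l⁻¹ * l := by group
          _ = j * l := by rw [h2])
      rw [hl, h1, map_one]
    have hexy : ∃ y : fx X, (y : L) ^ 3 = 1 ∧ (y : L) ≠ 1 ∧ ψ y = 1 := by
      obtain ⟨a, b, ha3, hXa, hb3, hXb, ha1, hb1, hab, hab'⟩ := F.indep
      obtain ⟨a', ha'⟩ : ∃ a' : fx X, (a' : L) = a := ⟨⟨a, hXa⟩, rfl⟩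
      obtain ⟨b', hb'⟩ : ∃ b' : fx X, (b' : L) = b := ⟨⟨b, hXb⟩, rfl⟩
      have ha3' : a' ^ 3 = 1 := Subtype.ext (by rw [← ha'] at ha3; exact ha3)
      have hb3' : b' ^ 3 = 1 := Subtype.ext (by rw [← hb'] at hb3; exact hb3)
      rcases F.out3 (ψ a') (ψ b') (by rw [← map_pow, ha3', map_one]) (by rw [← map_pow, hb3', map_one]) with
        ⟨l, hl⟩ | ⟨l, hl⟩ | ⟨l, hl⟩ | ⟨l, hl⟩
      · exact ⟨b', by rw [hb']; exact hb3, by rw [hb']; exact hb1, hin b' l hl⟩
      · exact ⟨a', by rw [ha']; exact ha3, by rw [ha']; exact ha1, hin a' l hl⟩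
      · refine ⟨b'⁻¹ * a', ?_, ?_, hin _ l ?_⟩
        · change ((b' : L)⁻¹ * (a' : L)) ^ 3 = 1
          rw [ha', hb']
          exact F.three b⁻¹ a (by rw [inv_pow, hb3, inv_one]) (by rw [map_inv, hXb]) ha3 hXa
        · change (b' : L)⁻¹ * (a' : L) ≠ 1
          rw [ha', hb']
          intro h
          exact hab (inv_mul_eq_one.mp h).symm
        · rw [map_mul, map_inv, hl]; group
      · refine ⟨b' * a', ?_, ?_, hin _ l ?_⟩
        · change ((b' : L) * (a' : L)) ^ 3 = 1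
          rw [ha', hb']
          exact F.three b a hb3 hXb ha3 hXa
        · change (b' : L) * (a' : L) ≠ 1
          rw [ha', hb']
          intro h
          exact hab' (eq_inv_of_mul_eq_one_right h)
        · rw [map_mul, hl]; group
    obtain ⟨y₁, hy₁3, hy₁1, hy₁⟩ := hexy
    have hYK : ∀ r : L, X r = r → r ^ 3 = 1 → g * (r : G) * g⁻¹ ∈ centralizer (L : Set G) := by
      intro r hr hr3
      have h1 := F.irr y₁ r hy₁3 hy₁1 y₁.2 hr3 hr
      have h2 : g * ((y₁ : L) : G) * g⁻¹ ∈ centralizer (L : Set G) := by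
        have := hψ y₁
        rw [hy₁] at this
        exact acts_one_iff.mp this
      have key : ∀ w ∈ closure {w | ∃ r, X r = r ∧ w = r * (y₁ : L) * r⁻¹},
          g * (w : G) * g⁻¹ ∈ centralizer (L : Set G) := by
        intro w hw
        induction hw using closure_induction with
        | mem w hw =>
          obtain ⟨r, hr, rfl⟩ := hw
          have e1 : g * ((r * (y₁ : L) * r⁻¹ : L) : G) * g⁻¹ =
              (g * (r : G) * g⁻¹) * (g * ((y₁ : L) : G) * g⁻¹) * (g * (r : G) * g⁻¹)⁻¹ := by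
            change g * ((r : G) * ((y₁ : L) : G) * (r : G)⁻¹) * g⁻¹ = _
            group
          rw [e1]
          exact K_conj (hRM r hr) h2
        | one => simp
        | mul a b _ _ ha hb =>
          have e1 : g * ((a * b : L) : G) * g⁻¹ = (g * (a : G) * g⁻¹) * (g * (b : G) * g⁻¹) := by
            change g * ((a : G) * (b : G)) * g⁻¹ = _
            group
          rw [e1]
          exact mul_mem ha hb
        | inv a _ ha =>
          have e1 : g * ((a⁻¹ : L) : G) * g⁻¹ = (g * (a : G) * g⁻¹)⁻¹ := by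
            change g * (a : G)⁻¹ * g⁻¹ = _
            group
          rw [e1]
          exact inv_mem ha
      exact key r h1
    -- the involutions of `C_L(x)`
    obtain ⟨s, -, hss, hs1, hXs⟩ := exists_fixed_inv X F.xx (⊤ : Subgroup L) (fun d _ => mem_top _) (by
      rw [card_top]
      exact (F.weven β hw).trans (card_subgroup_dvd_card _))
    obtain ⟨r, hr, hrr⟩ := F2.sq4 s hss hs1 hXs
    obtain ⟨r', hr'⟩ : ∃ r' : fx X, (r' : L) = r := ⟨⟨r, hr⟩, rfl⟩
    have hr4 : r' ^ 4 = 1 := by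
      apply Subtype.ext
      change (r' : L) ^ 4 = 1
      rw [hr']
      calc r ^ 4 = (r * r) * (r * r) := by rw [show (4 : ℕ) = 2 + 2 from rfl, pow_add, pow_two]
        _ = 1 := by rw [hrr, hss]
    obtain ⟨l, hl⟩ := F2.out4 (ψ r') (by rw [← map_pow, hr4, map_one])
    have hψs : ψ (r' * r') = 1 := hin _ l (by rw [map_mul]; exact hl)
    have hsK : g * (s : G) * g⁻¹ ∈ centralizer (L : Set G) := by
      have h1 := hψ (r' * r')
      rw [hψs] at h1
      have h2 : (((r' * r' : fx X) : L) : G) = (s : G) := by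
        rw [← hrr, ← hr']; rfl
      rw [h2] at h1
      exact acts_one_iff.mp h1
    have hss' : (s : G) * s = 1 := congrArg Subtype.val hss
    have hsT : IsT L x (g * (s : G) * g⁻¹) := by
      refine ⟨hsK, hR s hXs, ?_, ?_⟩
      · calc g * (s : G) * g⁻¹ * (g * (s : G) * g⁻¹) = g * (s * s) * g⁻¹ := by group
          _ = 1 := by rw [hss']; group
      · intro h
        apply hs1
        apply Subtype.ext
        calc (s : G) = g⁻¹ * (g * (s : G) * g⁻¹) * g := by group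
          _ = 1 := by rw [h]; group
    -- `g L g⁻¹ ≤ M`
    obtain ⟨S, hS⟩ : ∃ S : Subgroup L, ∀ l : L, l ∈ S ↔ g * (l : G) * g⁻¹ ∈ normalizer (L : Set G) :=
      ⟨(normalizer (L : Set G)).comap ((MulAut.conj g).toMonoidHom.comp L.subtype), fun l => Iff.rfl⟩
    have h3 : (⊤ : Subgroup L) ≤ S := by
      rw [← F2.yp s hss hs1 hXs]
      refine sup_le ?_ ?_
      · rw [closure_le]
        rintro y ⟨hy3, hXy⟩
        exact (hS y).mpr (K_le_M (hYK y hXy hy3))
      · intro l hl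
        have hl' : (l : G) * s = s * l := congrArg Subtype.val (mem_centralizer_singleton_iff.mp hl)
        apply (hS l).mpr
        apply H.Ct _ hsT
        calc g * (l : G) * g⁻¹ * (g * (s : G) * g⁻¹) = g * (l * s) * g⁻¹ := by group
          _ = g * (s * l) * g⁻¹ := by rw [hl']
          _ = _ := by group
    have hL1 : ∀ l ∈ L, g * l * g⁻¹ ∈ normalizer (L : Set G) := fun l hl =>
      (hS ⟨l, hl⟩).mp (h3 (mem_top _))
    exact hs1 (Subtype.ext (h0.z1 hL1 s.2 hsK))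
  · -- `g⁻¹ C_L(v) g ≤ L`
    obtain ⟨y₀, hy3, hy1, hβy, hXy⟩ := F.wthree β hw (hβ.comm hX hvx)
    have h1 : g⁻¹ * (y₀ : G) * g ∈ L := by
      have h2 : (⟨y₀, hβy⟩ : fx β) ∈ N := hN ▸ mem_top _
      exact h2
    have hy3' : (y₀ : G) ^ 3 = 1 := congrArg Subtype.val hy3
    have hxy : x * (y₀ : G) = y₀ * x := (hX.fix_iff y₀).mp hXy
    obtain ⟨y₂, hy₂⟩ : ∃ y₂ : L, (y₂ : G) = g⁻¹ * (y₀ : G) * g := ⟨⟨_, h1⟩, rfl⟩
    have hy₂3 : y₂ ^ 3 = 1 := by
      apply Subtype.ext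
      change (y₂ : G) ^ 3 = 1
      rw [hy₂]
      calc (g⁻¹ * (y₀ : G) * g) ^ 3 = g⁻¹ * ((y₀ : G) ^ 3) * g := by
            rw [pow_three, pow_three]; group
        _ = 1 := by rw [hy3']; group
    have hy₂1 : y₂ ≠ 1 := by
      intro h
      apply hy1
      apply Subtype.ext
      calc (y₀ : G) = g * (y₂ : G) * g⁻¹ := by rw [hy₂]; group
        _ = 1 := by rw [h]; simp
    have hXy₂ : X y₂ = y₂ := by
      rw [hyX.fix_iff, hy₂, hyd]
      calc g⁻¹ * x * g * (g⁻¹ * (y₀ : G) * g) = g⁻¹ * (x * y₀) * g := by group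
        _ = g⁻¹ * (y₀ * x) * g := by rw [hxy]
        _ = _ := by group
    have key : ∀ w ∈ closure {w | ∃ r, X r = r ∧ w = r * y₂ * r⁻¹},
        g * (w : G) * g⁻¹ ∈ L ∧ g * (w : G) * g⁻¹ * x = x * (g * (w : G) * g⁻¹) := by
      intro w hw
      induction hw using closure_induction with
      | mem w hw =>
        obtain ⟨r, hr, rfl⟩ := hw
        have e1 : g * ((r * y₂ * r⁻¹ : L) : G) * g⁻¹ =
            (g * (r : G) * g⁻¹) * y₀ * (g * (r : G) * g⁻¹)⁻¹ := by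
          change g * ((r : G) * (y₂ : G) * (r : G)⁻¹) * g⁻¹ = _
          rw [hy₂]; group
        rw [e1]
        refine ⟨L_conj (hRM r hr) y₀.2, ?_⟩
        have h4 := hR r hr
        obtain ⟨ρ, hρ⟩ : ∃ ρ, ρ = g * (r : G) * g⁻¹ := ⟨_, rfl⟩
        rw [← hρ] at h4 ⊢
        have h5 : ρ⁻¹ * x = x * ρ⁻¹ := by
          calc ρ⁻¹ * x = ρ⁻¹ * (x * ρ) * ρ⁻¹ := by group
            _ = ρ⁻¹ * (ρ * x) * ρ⁻¹ := by rw [h4]
            _ = x * ρ⁻¹ := by group
        calc ρ * y₀ * ρ⁻¹ * x = ρ * y₀ * (ρ⁻¹ * x) := by group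
          _ = ρ * (y₀ * x) * ρ⁻¹ := by rw [h5]; group
          _ = (ρ * x) * y₀ * ρ⁻¹ := by rw [← hxy]; group
          _ = x * (ρ * y₀ * ρ⁻¹) := by rw [h4]; group
      | one => simp
      | mul a b _ _ ha hb =>
        have e1 : g * ((a * b : L) : G) * g⁻¹ = (g * (a : G) * g⁻¹) * (g * (b : G) * g⁻¹) := by
          change g * ((a : G) * (b : G)) * g⁻¹ = _
          group
        rw [e1]
        refine ⟨mul_mem ha.1 hb.1, ?_⟩
        calc g * (a : G) * g⁻¹ * (g * (b : G) * g⁻¹) * x = g * (a : G) * g⁻¹ * ((g * (b : G) * g⁻¹) * x) := by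
              group
          _ = (g * (a : G) * g⁻¹ * x) * (g * (b : G) * g⁻¹) := by rw [hb.2]; group
          _ = _ := by rw [ha.2]; group
      | inv a _ ha =>
        have e1 : g * ((a⁻¹ : L) : G) * g⁻¹ = (g * (a : G) * g⁻¹)⁻¹ := by
          change g * (a : G)⁻¹ * g⁻¹ = _
          group
        rw [e1]
        refine ⟨inv_mem ha.1, ?_⟩
        calc (g * (a : G) * g⁻¹)⁻¹ * x = (g * (a : G) * g⁻¹)⁻¹ * (x * (g * (a : G) * g⁻¹)) *
              (g * (a : G) * g⁻¹)⁻¹ := by group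
          _ = (g * (a : G) * g⁻¹)⁻¹ * (g * (a : G) * g⁻¹ * x) * (g * (a : G) * g⁻¹)⁻¹ := by rw [ha.2]
          _ = _ := by group
    -- `β` fixes `g Y g⁻¹ = Y` pointwise
    have hfix : ∀ z : L, z ^ 3 = 1 → X z = z → ∃ z' : L, (z' : G) = g * (z : G) * g⁻¹ ∧ z' ^ 3 = 1 ∧
        X z' = z' ∧ β z' = z' := by
      intro z hz3 hXz
      obtain ⟨h4, h5⟩ := key z (F.irr y₂ z hy₂3 hy₂1 hXy₂ hz3 hXz)
      have hz3' : (z : G) ^ 3 = 1 := congrArg Subtype.val hz3
      refine ⟨⟨_, h4⟩, rfl, ?_, ?_, ?_⟩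
      · apply Subtype.ext
        change (g * (z : G) * g⁻¹) ^ 3 = 1
        calc (g * (z : G) * g⁻¹) ^ 3 = g * ((z : G) ^ 3) * g⁻¹ := by
              rw [pow_three, pow_three]; group
          _ = 1 := by rw [hz3']; group
      · exact (hX.fix_iff _).mpr h5.symm
      · rw [hβ.fix_iff]
        exact (hRv z).symm
    obtain ⟨a, b, ha3, hXa, hb3, hXb, ha1, hb1, hab, hab'⟩ := F.indep
    obtain ⟨a', ha', ha'3, hXa', hβa'⟩ := hfix a ha3 hXa
    obtain ⟨b', hb', hb'3, hXb', hβb'⟩ := hfix b hb3 hXb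
    have hinj : ∀ c d : L, g * (c : G) * g⁻¹ = g * (d : G) * g⁻¹ → c = d := fun c d h =>
      Subtype.ext (mul_left_cancel (mul_right_cancel h))
    rcases F2.wone β hw (hβ.comm hX hvx) a' b' ha'3 hXa' hβa' hb'3 hXb' hβb' with h | h | h | h
    · apply ha1
      apply hinj
      rw [← ha', h]; simp
    · apply hb1
      apply hinj
      rw [← hb', h]; simp
    · apply hab
      apply hinj
      rw [← ha', ← hb', h]
    · apply hab'
      apply hinj
      have h6 : g * ((b⁻¹ : L) : G) * g⁻¹ = (g * (b : G) * g⁻¹)⁻¹ := by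
        change g * (b : G)⁻¹ * g⁻¹ = _
        group
      rw [← ha', h6, ← hb', h]
      rfl

end Hyp

end Cfsg.Agent.UGT.ThEL34
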