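import Cfsg.Agent.UGT.ThEL34.FixB

/-!
# Theorem E for `L₃(4)`, V: (E1)
-/

set_option autoImplicit false

open Subgroup

namespace Cfsg.Agent.UGT.ThEL34

open Cfsg.Agent.UGT.ThE.Base (comm_of_mem L_conj L_conj' K_le_M L_le_M K_conj K_conj' IsT IsS IsT1 exists_central
  exists_sqrt)

variable {G : Type*} [Group G]

namespace Hyp

variable {L : Subgroup G} {x : G} (H : Hyp L x)
include H

/-- (E1)(iii), the main step -/
theorem fix3 [Finite G] {g : G} (hg : g ∉ normalizer (L : Set G))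
    (hk : g⁻¹ * x * g * x ∈ centralizer (L : Set G)) : False := by
  have h0 := H.hyp0
  obtain ⟨X, hX, F⟩ := H.facts
  obtain ⟨y, hy⟩ : ∃ y, y = g⁻¹ * x * g := ⟨_, rfl⟩
  obtain ⟨k, hkd⟩ : ∃ k, k = y * x := ⟨_, rfl⟩
  have hyy : y * y = 1 := by
    rw [hy]
    calc g⁻¹ * x * g * (g⁻¹ * x * g) = g⁻¹ * (x * x) * g := by group
      _ = 1 := by rw [H.xx]; group
  have hkK : k ∈ centralizer (L : Set G) := by rw [hkd, hy]; exact hk
  have hykx : y = k * x := by
    rw [hkd, mul_assoc, H.xx, mul_one]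
  have hyX : Acts L y X := by rw [hykx]; exact hX.Kmul hkK
  have hxk : x * k * x⁻¹ = k⁻¹ := by
    rw [hkd, mul_inv_rev, inv_eq_of_mul_eq_one_left hyy, H.xi]
    calc x * (y * x) * x = x * y * (x * x) := by group
      _ = x * y := by rw [H.xx, mul_one]
  have hxz : ∀ j ∈ zpowers k, x * j * x⁻¹ = j⁻¹ := by
    intro j hj
    obtain ⟨n, rfl⟩ := mem_zpowers_iff.mp hj
    rw [← conj_zpow, hxk, inv_zpow]
  have hzK : ∀ j ∈ zpowers k, j ∈ centralizer (L : Set G) := fun j hj =>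
    (zpowers_le.mpr hkK) hj
  rcases Nat.even_or_odd (orderOf k) with hev | hodd
  · obtain ⟨n, hn⟩ := hev
    have hnpos : 0 < n := by
      have := orderOf_pos k
      omega
    obtain ⟨t, htd⟩ : ∃ t, t = k ^ n := ⟨_, rfl⟩
    have htz : t ∈ zpowers k := htd ▸ pow_mem (mem_zpowers k) n
    have htt : t * t = 1 := by rw [htd, ← pow_add, ← hn, pow_orderOf_eq_one]
    have ht1 : t ≠ 1 := by
      rw [htd]
      intro h
      have := orderOf_le_of_pow_eq_one hnpos h
      omega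
    have htx : t * x = x * t := by
      have h1 := hxz t htz
      rw [inv_eq_of_mul_eq_one_left htt] at h1
      calc t * x = (x * t * x⁻¹) * x := by rw [h1]
        _ = x * t := by group
    have htT : IsT L x t := ⟨hzK t htz, htx, htt, ht1⟩
    have hty : t * y = y * t := by
      have h1 : t * k = k * t := by
        rw [htd]; exact ((Commute.refl k).pow_left n)
      rw [hykx]
      calc t * (k * x) = (t * k) * x := by group
        _ = k * (t * x) := by rw [h1]; group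
        _ = k * x * t := by rw [htx]; group
    obtain ⟨v, hv⟩ : ∃ v, v = g * t * g⁻¹ := ⟨_, rfl⟩
    have hvt : g⁻¹ * v * g = t := by rw [hv]; group
    have hvx : v * x = x * v := by
      rw [hv]
      have e1 : x = g * y * g⁻¹ := by rw [hy]; group
      calc g * t * g⁻¹ * x = g * t * g⁻¹ * (g * y * g⁻¹) := by rw [← e1]
        _ = g * (t * y) * g⁻¹ := by group
        _ = g * (y * t) * g⁻¹ := by rw [hty]
        _ = (g * y * g⁻¹) * (g * t * g⁻¹) := by group
        _ = x * (g * t * g⁻¹) := by rw [← e1]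
    have hvv : v * v = 1 := by
      rw [hv]
      calc g * t * g⁻¹ * (g * t * g⁻¹) = g * (t * t) * g⁻¹ := by group
        _ = 1 := by rw [htt]; group
    have hv1 : v ≠ 1 := by
      intro h
      apply ht1
      rw [← hvt, h]; group
    have hvM := H.Cx v hvx
    obtain ⟨β, hβ⟩ := exists_acts hvM
    by_cases hw : Wild X β
    · exact H.fix_wild hX F hg hk htT (by rw [← hv]; exact hvx) (by rw [← hv]; exact hβ) hw
    rcases H.cls hX F hvx hvv hv1 hβ hw with h | ⟨t₁, ht₁, h⟩ | ⟨s, hs, t₁, ht₁, h⟩ | ⟨s, hs, t₁, ht₁, h⟩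
    · exact hg (h0.fixT h (by rw [hvt]; exact htT.mem))
    · exact H.badT1 ht₁ g (by rw [← h, hvt]; exact htT)
    · have hβs : β = MulAut.conj ⟨s, hs.mem⟩ := by
        have h1 := (acts_of_mem hs.mem).mulK ht₁.mem
        rw [← h] at h1
        exact hβ.uniq h1
      obtain ⟨f₁, f₂, hf₁, hf₂, hf, hc, hd₁, hd₂⟩ := H.exists_pair hs ht₁
      rw [← h] at hd₁ hd₂
      have hd : f₁ * f₂ * v = v * (f₁ * f₂) := by
        calc f₁ * f₂ * v = f₁ * (f₂ * v) := by group
          _ = (f₁ * v) * f₂ := by rw [hd₂]; group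
          _ = v * (f₁ * f₂) := by rw [hd₁]; group
      have hM : ∀ f, f * v = v * f → g⁻¹ * f * g ∈ normalizer (L : Set G) := by
        intro f hfv
        apply H.Ct t htT
        calc g⁻¹ * f * g * t = g⁻¹ * (f * v) * g := by rw [← hvt]; group
          _ = g⁻¹ * (v * f) * g := by rw [hfv]
          _ = t * (g⁻¹ * f * g) := by rw [← hvt]; group
      have hnK : ∀ f, IsT L x f → g⁻¹ * f * g ∉ centralizer (L : Set G) :=
        fun f hf h1 => hg (h0.fixT hf h1)
      have hfy : ∀ f, IsT L x f → (g⁻¹ * f * g) * y = y * (g⁻¹ * f * g) := by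
        intro f hf
        rw [hy]
        calc g⁻¹ * f * g * (g⁻¹ * x * g) = g⁻¹ * (f * x) * g := by group
          _ = g⁻¹ * (x * f) * g := by rw [hf.comm]
          _ = _ := by group
      have sqc : ∀ f, IsT L x f → g⁻¹ * f * g * (g⁻¹ * f * g) = 1 := by
        intro f hf
        calc g⁻¹ * f * g * (g⁻¹ * f * g) = g⁻¹ * (f * f) * g := by group
          _ = 1 := by rw [hf.sq]; group
      -- no `f` acts wildly on `g L g⁻¹`
      have hnw : ∀ f, IsT L x f → f * v = v * f → ∀ α, Acts L (g⁻¹ * f * g) α → ¬ Wild X α := by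
        intro f hfT hfv α hα hw
        have hcomm : ∀ j : L, α j = j → g * (j : G) * g⁻¹ * f = f * (g * (j : G) * g⁻¹) := by
          intro j hj
          have h1 : g⁻¹ * f * g * (j : G) = j * (g⁻¹ * f * g) := (hα.fix_iff j).mp hj
          calc g * (j : G) * g⁻¹ * f = g * (j * (g⁻¹ * f * g)) * g⁻¹ := by group
            _ = g * (g⁻¹ * f * g * j) * g⁻¹ := by rw [h1]
            _ = f * (g * (j : G) * g⁻¹) := by group
        refine H.le_of_wild F hw (fun j hj => H.Ct f hfT _ (hcomm j hj)) hβ ?_ ?_ hy hyX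
          ((hα.comm hyX (hfy f hfT)).symm)
        · rw [hβs]
          exact F.sols _ (Subtype.ext hs.sq) (fun h1 => hs.ne (congrArg Subtype.val h1))
        · intro j _
          have h1 := comm_of_mem j.2 htT.mem
          rw [hv]
          calc g * (j : G) * g⁻¹ * (g * t * g⁻¹) = g * (j * t) * g⁻¹ := by group
            _ = g * (t * j) * g⁻¹ := by rw [h1]
            _ = _ := by group
      have m1 := hM f₁ hd₁
      have m2 := hM f₂ hd₂
      obtain ⟨α₁, hα₁⟩ := exists_acts m1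
      obtain ⟨α₂, hα₂⟩ := exists_acts m2
      have e12 : g⁻¹ * f₁ * g * (g⁻¹ * f₂ * g) = g⁻¹ * (f₁ * f₂) * g := by group
      have hα₁₂ : Acts L (g⁻¹ * (f₁ * f₂) * g) (α₁ * α₂) := by
        rw [← e12]; exact hα₁.mul hα₂
      have hw : ∃ w, IsT L x w ∧ Acts L (g⁻¹ * w * g) X := by
        rcases F.four_x (hα₁.sq (sqc f₁ hf₁)) (hα₂.sq (sqc f₂ hf₂))
          (hα₁.comm hα₂ (by rw [e12, hc]; group)) (hα₁.comm hyX (hfy f₁ hf₁))
          (hα₂.comm hyX (hfy f₂ hf₂)) (fun h1 => hnK f₁ hf₁ (hα₁.eq_one_iff.mp h1))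
          (fun h1 => hnK f₂ hf₂ (hα₂.eq_one_iff.mp h1)) (fun h1 => hnK _ hf (hα₁₂.eq_one_iff.mp h1))
          (hnw f₁ hf₁ hd₁ α₁ hα₁) (hnw f₂ hf₂ hd₂ α₂ hα₂) with h1 | h1 | h1
        · exact ⟨f₁, hf₁, h1 ▸ hα₁⟩
        · exact ⟨f₂, hf₂, h1 ▸ hα₂⟩
        · exact ⟨f₁ * f₂, hf, h1 ▸ hα₁₂⟩
      obtain ⟨w, hw, hwX⟩ := hw
      have h5 : y * (g⁻¹ * w * g) ∈ centralizer (L : Set G) := by
        have h6 := hyX.mul hwX
        rw [F.xx] at h6
        exact acts_one_iff.mp h6
      have hL1 : ∀ l ∈ L, g * l * g⁻¹ ∈ normalizer (L : Set G) := by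
        intro l hl
        apply H.Cxt w hw
        have h6 := comm_of_mem hl h5
        have h7 : x * w = g * (y * (g⁻¹ * w * g)) * g⁻¹ := by rw [hy]; group
        rw [h7]
        calc g * l * g⁻¹ * (g * (y * (g⁻¹ * w * g)) * g⁻¹) = g * (l * (y * (g⁻¹ * w * g))) * g⁻¹ := by group
          _ = g * ((y * (g⁻¹ * w * g)) * l) * g⁻¹ := by rw [h6]
          _ = _ := by group
      exact hnK w hw (h0.z3 hL1 hw.mem hwX.mem)
    · obtain ⟨l, hl, h1⟩ := H.conjST hs ht₁
      apply H.badT1 ht₁ (l * g)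
      have h2 : (l * g)⁻¹ * (x * t₁) * (l * g) = t := by
        rw [← h1, ← h, ← hvt]; group
      rw [h2]
      exact htT
  · obtain ⟨j, hj, hjz⟩ := exists_sqrt hodd
    have h1 := hxz j hjz
    have h2 : j * x * j⁻¹ = y := by
      have h3 : x * j⁻¹ * x⁻¹ = j := by
        have := hxz j⁻¹ (inv_mem hjz)
        rwa [inv_inv] at this
      calc j * x * j⁻¹ = j * (x * j⁻¹ * x⁻¹) * x := by group
        _ = j * j * x := by rw [h3]
        _ = y := by rw [hj, ← hykx]
    have h3 : (g * j) * x = x * (g * j) := by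
      calc (g * j) * x = g * (j * x * j⁻¹) * j := by group
        _ = g * (g⁻¹ * x * g) * j := by rw [h2, hy]
        _ = x * (g * j) := by group
    apply hg
    have h4 : g = (g * j) * j⁻¹ := by group
    rw [h4]
    exact mul_mem (H.Cx _ h3) (inv_mem (K_le_M (hzK j hjz)))

/-- **(E1)** `x` normalizes exactly one conjugate of `L`. -/
theorem fix [Finite G] {g : G} (hx : g⁻¹ * x * g ∈ normalizer (L : Set G)) :
    g ∈ normalizer (L : Set G) := by
  by_contra hg
  have h0 := H.hyp0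
  obtain ⟨X, hX, F⟩ := H.facts
  obtain ⟨y, hy⟩ : ∃ y, y = g⁻¹ * x * g := ⟨_, rfl⟩
  rw [← hy] at hx
  have hyy : y * y = 1 := by
    rw [hy]
    calc g⁻¹ * x * g * (g⁻¹ * x * g) = g⁻¹ * (x * x) * g := by group
      _ = 1 := by rw [H.xx]; group
  have hx1 : x ∉ centralizer (L : Set G) := by
    have := h0.xLK 1 (one_mem _)
    rwa [mul_one] at this
  obtain ⟨b, hb⟩ := exists_acts hx
  have hcomm : ∀ l : L, b l = l → g * (l : G) * g⁻¹ * x = x * (g * (l : G) * g⁻¹) := by
    intro l hl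
    have h1 := (hb.fix_iff l).mp hl
    have e1 : x = g * y * g⁻¹ := by rw [hy]; group
    calc g * (l : G) * g⁻¹ * x = g * (l : G) * g⁻¹ * (g * y * g⁻¹) := by rw [← e1]
      _ = g * (l * y) * g⁻¹ := by group
      _ = g * (y * l) * g⁻¹ := by rw [h1]
      _ = (g * y * g⁻¹) * (g * (l : G) * g⁻¹) := by group
      _ = x * (g * (l : G) * g⁻¹) := by rw [← e1]
  rcases tri X (hb.sq hyy) with ⟨s₀, hs₀⟩ | ⟨l, hl⟩ | hw
  · by_cases hs1 : s₀ = 1
    · rw [hs1, map_one] at hs₀
      have hyK := hb.eq_one_iff.mp hs₀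
      have hL1 : ∀ l ∈ L, g * l * g⁻¹ ∈ normalizer (L : Set G) := by
        intro l hl
        exact H.Cx _ (hcomm ⟨l, hl⟩ (by rw [hs₀]; rfl))
      exact hx1 (h0.z4 hL1 h0.xM (hy ▸ hyK))
    · rw [hs₀] at hb
      exact H.fix_inner hX F (F.sq_of_conj (hb.sq hyy)) hs1 (hy ▸ hb)
  · -- `y` is conjugate to `x` modulo `K`
    have h1 := hb.sq hyy
    rw [hl] at h1 hb
    obtain ⟨m, hm⟩ := F.xconj l h1
    refine H.fix3 (g := g * (m : G)⁻¹) (fun h1 => hg ?_) ?_
    · have h2 : g = g * (m : G)⁻¹ * m := by group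
      rw [h2]
      exact mul_mem h1 (L_le_M m.2)
    · have h2 := ((acts_coe m).mul hb).mul (acts_coe m).inv
      rw [hm] at h2
      have h3 := h2.mul hX
      rw [F.xx] at h3
      have h4 : (g * (m : G)⁻¹)⁻¹ * x * (g * (m : G)⁻¹) * x = (m : G) * y * (m : G)⁻¹ * x := by
        rw [hy]; group
      rw [h4]
      exact acts_one_iff.mp h3
  · exact H.le_of_wild F hw (fun j hj => H.Cx _ (hcomm j hj)) hX F.solx (fun j hj => hcomm j hj) hy hb rfl

end Hyp

end Cfsg.Agent.UGT.ThEL34
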